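import Cfsg.Agent.Lib.InvolCentGLTwoThree.Roots
import Cfsg.Agent.Lib.CurtisTits.Hom
import Cfsg.Agent.Lib.GL.Simple

/-!
# The Steinberg relations in a simple group of order 5616
-/

set_option autoImplicit false
set_option linter.style.haveILetI false
set_option linter.unusedSectionVars false

namespace Cfsg.Agent.InvolCentGLTwoThree

open Cfsg Cfsg.Agent
open scoped Classical

universe u

theorem m_pow27 : ∀ v : M, v ^ 27 = v * v * v := by decide +kernel

theorem prod_mem_centralizer_pow {G : Type*} [Group G] {x y k : G} (hx : Commute x k) (hy : Commute y k) :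
    Commute (x * y) k := hx.mul_left hy

/-- Powers in a commutator relation. -/
theorem chain_pow {G : Type*} [Group G] {A B C : G} (h : A * B = C * B * A) (hA : Commute C A) (hB : Commute C B)
    (m n : ℕ) : A ^ m * B ^ n = C ^ (m * n) * B ^ n * A ^ m := by
  have h1 : ∀ n : ℕ, A * B ^ n = C ^ n * B ^ n * A := by
    intro n
    induction n with
    | zero => simp
    | succ n ih =>
      calc A * B ^ (n + 1) = A * B ^ n * B := by rw [pow_succ, mul_assoc]
        _ = C ^ n * B ^ n * (A * B) := by rw [ih]; group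
        _ = C ^ n * (B ^ n * C) * (B * A) := by rw [h]; group
        _ = C ^ n * (C * B ^ n) * (B * A) := by rw [(hB.pow_right n).eq]
        _ = _ := by rw [pow_succ, pow_succ]; group
  induction m with
  | zero => simp
  | succ m ih =>
    calc A ^ (m + 1) * B ^ n = A ^ m * (A * B ^ n) := by rw [pow_succ, mul_assoc]
      _ = (A ^ m * C ^ n) * B ^ n * A := by rw [h1]; group
      _ = C ^ n * (A ^ m * B ^ n) * A := by rw [((hA.pow_left n).pow_right m).symm.eq]; group
      _ = C ^ (n + m * n) * B ^ n * A ^ (m + 1) := by rw [ih, pow_add, pow_succ]; group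
      _ = _ := by rw [show n + m * n = (m + 1) * n by ring]

/-- The sign lemma. -/
theorem eps {G : Type*} [Group G] {a b p q t : G} (hab : a * b * (a * b) = t) (hq : t * q = q⁻¹ * t)
    (haq : a * q = p * q * a) (hap : Commute a p) (hbq : Commute b q) (hbp : b * p = q * q * p * b)
    (hpq : Commute p q) (p3 : p * p * p = 1) (q3 : q * q * q = 1) (q1 : q ≠ 1) : False := by
  have h1 : a * b * q = p * q * (a * b) := by rw [mul_assoc a b q, hbq.eq, ← mul_assoc, haq]; group
  have h2 : a * b * p = q * q * (a * b) := by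
    calc a * b * p = a * q * (q * p) * b := by rw [mul_assoc a b p, hbp]; group
      _ = p * q * a * (q * p) * b := by rw [haq]
      _ = p * q * (a * q) * p * b := by group
      _ = p * q * (p * q * a) * p * b := by rw [haq]
      _ = p * q * (p * q) * (a * p) * b := by group
      _ = p * q * (p * q) * (p * a) * b := by rw [hap.eq]
      _ = p * p * (q * q) * p * (a * b) := by rw [hpq.symm.mul_mul_mul_comm]; group
      _ = p * p * p * (q * q) * (a * b) := by
        rw [mul_assoc (p * p) (q * q) p, (hpq.symm.mul_left hpq.symm).eq]; group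
      _ = q * q * (a * b) := by rw [p3, one_mul]
  have h3 : t * q = p * t := by
    rw [← hab]
    calc a * b * (a * b) * q = a * b * p * (q * (a * b)) := by rw [mul_assoc (a * b) (a * b) q, h1]; group
      _ = q * q * (a * b * q) * (a * b) := by rw [h2]; group
      _ = q * q * p * q * (a * b * (a * b)) := by rw [h1]; group
      _ = p * (q * q * q) * (a * b * (a * b)) := by rw [← (hpq.mul_right hpq).eq]; group
      _ = p * (a * b * (a * b)) := by rw [q3, mul_one]
  have hp : p = q⁻¹ := (mul_right_cancel (hq.symm.trans h3)).symm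
  rw [hp, inv_mul_cancel, one_mul] at haq
  exact q1 (mul_eq_left.1 haq)

variable {G : Type u} [Group G] [Fintype G] [IsSimpleGroup G] {t : G}
  {f : M ≃* Subgroup.centralizer ({t} : Set G)}

theorem cube_of_pow27 (hS : Setup t f) {k k' y : G} (hk : Frame k k') (hy : y ^ 27 = 1) (hc : Commute y k) :
    y * y * y = 1 := by
  obtain ⟨g, -, -, -, hsur⟩ := exists_chart hS hk
  obtain ⟨v, rfl⟩ := hsur y hc
  rwa [← map_mul, ← map_mul, ← m_pow27, map_pow]

theorem small (hS : Setup t f) {k k' x y : G} (hk : Frame k k') (hx : x ^ 27 = 1) (hy : y ^ 27 = 1)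
    (hxy : (x * y) ^ 27 = 1) (hx1 : x ≠ 1) (hxk : Commute x k) (hyk : Commute y k) :
    y = 1 ∨ y = x ∨ y = x * x := by
  have x3 := cube_of_pow27 hS hk hx hxk
  have y3 := cube_of_pow27 hS hk hy hyk
  have xy3 := cube_of_pow27 hS hk hxy (hxk.mul_left hyk)
  obtain ⟨g, hg, -, -, hsur⟩ := exists_chart hS hk
  obtain ⟨a, rfl⟩ := hsur x hxk
  obtain ⟨b, rfl⟩ := hsur y hyk
  rcases m_comm a b (hg (by rw [map_mul, map_mul, x3, map_one])) (hg (by rw [map_mul, map_mul, y3, map_one]))
    (fun e => hx1 (by rw [e, map_one])) (hg (by simp only [map_mul, map_one]; exact xy3)) with e | e | e <;>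
    simp [e]

theorem pow27_of_cube {x : G} (h : x * x * x = 1) : x ^ 27 = 1 := by
  have h3 : x ^ 3 = 1 := by rw [pow_succ, pow_two, h]
  rw [show (27 : ℕ) = 3 * 9 by rfl, pow_mul, h3, one_pow]

variable (hcard : Nat.card G = 5616)
include hcard

theorem card_centralizer_of_comm (hS : Setup t f) {k x : G} (hk : k * k = 1) (hk1 : k ≠ 1) (hx : x * x * x = 1)
    (hx1 : x ≠ 1) (hc : Commute x k) : Nat.card (Subgroup.centralizer ({x} : Set G)) = 54 := by
  rw [card_centralizer_conj (exists_conj_uu hS hk hk1 hx hx1 hc), card_centralizer_uu hcard hS]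

/-- The radical of the centraliser of a root element. -/
theorem exists_rad (hS : Setup t f) {k x : G} (hk : k * k = 1) (hk1 : k ≠ 1) (hx : x * x * x = 1)
    (hx1 : x ≠ 1) (hc : Commute x k) :
    ∃ R : Subgroup G, Nat.card R = 27 ∧ ∀ v : G, v ∈ R ↔ Commute v x ∧ v ^ 27 = 1 := by
  haveI : Fact (Nat.Prime 3) := ⟨Nat.prime_three⟩
  set C := Subgroup.centralizer ({x} : Set G) with hC
  have hCc : Nat.card C = 54 := card_centralizer_of_comm hcard hS hk hk1 hx hx1 hc
  obtain ⟨P⟩ : Nonempty (Sylow 3 C) := inferInstance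
  have hP : Nat.card (P : Subgroup C) = 27 :=
    SmallSimple.card_sylow_subgroup (p := 3) (k := 3) (m := 2) (by rw [hCc]; norm_num) (by norm_num) P
  have hidx : (P : Subgroup C).index = 2 := by
    have := (P : Subgroup C).card_mul_index
    rw [hP, hCc] at this
    omega
  refine ⟨(P : Subgroup C).map C.subtype, by rw [Subgroup.card_map_of_injective C.subtype_injective, hP],
    fun v => ⟨?_, fun h => ?_⟩⟩
  · rintro ⟨w, hw, rfl⟩
    refine ⟨Subgroup.mem_centralizer_singleton_iff.1 w.2, ?_⟩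
    have h := pow_card_eq_one' (x := (⟨w, hw⟩ : (P : Subgroup C)))
    rw [hP] at h
    exact congrArg (fun q : (P : Subgroup C) => ((q : C) : G)) h
  · refine ⟨⟨v, Subgroup.mem_centralizer_singleton_iff.2 h.1.eq⟩, ?_, rfl⟩
    have h14 := Subgroup.sq_mem_of_index_two hidx
      ((⟨v, Subgroup.mem_centralizer_singleton_iff.2 h.1.eq⟩ : C) ^ 14)
    rwa [← pow_mul, show 14 * 2 = 1 + 27 by rfl, pow_add, pow_one,
      show ((⟨v, Subgroup.mem_centralizer_singleton_iff.2 h.1.eq⟩ : C) ^ 27) = 1 from Subtype.ext h.2,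
      mul_one] at h14

/-- Conjugation by an element fixing or inverting `x` stabilises the radical. -/
theorem rad_conj {x : G} {R : Subgroup G} (hR : ∀ v : G, v ∈ R ↔ Commute v x ∧ v ^ 27 = 1) {k : G}
    (hkx : k * x * k⁻¹ = x ∨ k * x * k⁻¹ = x⁻¹) {v : G} (hv : v ∈ R) : k * v * k⁻¹ ∈ R := by
  obtain ⟨hvx, hv27⟩ := (hR v).1 hv
  refine (hR _).2 ⟨?_, by rw [conj_pow, hv27, mul_one, mul_inv_cancel]⟩
  have h : Commute (k * v * k⁻¹) (k * x * k⁻¹) := by
    show k * v * k⁻¹ * (k * x * k⁻¹) = k * x * k⁻¹ * (k * v * k⁻¹)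
    calc k * v * k⁻¹ * (k * x * k⁻¹) = k * (v * x) * k⁻¹ := by group
      _ = _ := by rw [hvx.eq]; group
  rcases hkx with e | e <;> rw [e] at h
  · exact h
  · simpa using h.inv_right

/-- The neighbour of a root. -/
theorem exists_nbr (hS : Setup t f) {k k' x : G} (hk : Frame k k') (hx : Root k k' x) :
    ∃ y, Root k' k y ∧ Commute y x := by
  obtain ⟨R, hRc, hR⟩ := exists_rad hcard hS hk.sq hk.ne hx.cube hx.ne hx.comm
  have hki : k⁻¹ = k := inv_eq_of_mul_eq_one_right hk.sq
  have hki' : k'⁻¹ = k' := inv_eq_of_mul_eq_one_right hk.sq'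
  have hσ : ∀ v ∈ R, k' * v * k' ∈ R := fun v hv => by
    have := rad_conj hcard hR (k := k') (Or.inr (by rw [hki', hx.invert])) hv
    rwa [hki'] at this
  have hρ : ∀ v ∈ R, k * v * k ∈ R := fun v hv => by
    have := rad_conj hcard hR (k := k) (Or.inl (by rw [hx.comm.symm.eq, mul_inv_cancel_right])) hv
    rwa [hki] at this
  have hxR : x ∈ R := (hR x).2 ⟨Commute.refl x, pow27_of_cube hx.cube⟩
  have p27 : ∀ {v : G}, v ∈ R → v ^ 27 = 1 := fun hv => ((hR _).1 hv).2
  have htt' : ∀ v : G, k' * (k' * v) = v := fun v => by rw [← mul_assoc, hk.sq', one_mul]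
  by_cases hfix : ∃ y ∈ R, y ≠ 1 ∧ k' * y * k' = y
  · obtain ⟨y, hy, hy1, hyk⟩ := hfix
    have hc : Commute y k' := by
      show y * k' = k' * y
      calc y * k' = k' * y * k' * k' := by rw [hyk]
        _ = k' * y := by rw [mul_assoc, hk.sq', mul_one]
    have hz := hρ y hy
    have hzc : Commute (k * y * k) k' := (hk.comm.mul_left hc).mul_left hk.comm
    have y3 := cube_of_pow27 hS hk.symm (p27 hy) hc
    refine ⟨y, ⟨y3, hy1, hc, ?_⟩, ((hR y).1 hy).1⟩
    rcases small hS hk.symm (p27 hy) (p27 hz) (p27 (R.mul_mem hy hz)) hy1 hc hzc with e | e | e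
    · refine absurd ?_ hy1
      calc y = k * (k * y * k) * k := by rw [mul_assoc k y k, ← mul_assoc k k, hk.sq, one_mul, mul_assoc, hk.sq, mul_one]
        _ = 1 := by rw [e, mul_one, hk.sq]
    · exfalso
      have hyk' : Commute y k := by
        show y * k = k * y
        calc y * k = k * y * k * k := by rw [e]
          _ = k * y := by rw [mul_assoc, hk.sq, mul_one]
      rcases small hS hk (p27 hxR) (p27 hy) (p27 (R.mul_mem hxR hy)) hx.ne hx.comm hyk' with e' | e' | e'
      · exact hy1 e'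
      · refine hy1 (eq_one_of_inv_eq y3 ?_)
        rw [e'] at hyk ⊢
        exact hyk.symm.trans hx.invert
      · refine hy1 (eq_one_of_inv_eq y3 ?_)
        rw [e'] at hyk ⊢
        exact hyk.symm.trans (Root.sq hk.sq' hx).invert
    · rw [e]
      exact eq_inv_of_mul_eq_one_left y3
  · exfalso
    push_neg at hfix
    let φ : R →* R :=
      { toFun := fun v => ⟨k' * v * k', hσ v v.2⟩
        map_one' := Subtype.ext (by show k' * (1 : G) * k' = 1; rw [mul_one, hk.sq'])
        map_mul' := fun a b => Subtype.ext (by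
          show k' * ((a : G) * b) * k' = k' * a * k' * (k' * b * k')
          simp only [mul_assoc, htt']) }
    have hfpf : MonoidHom.FixedPointFree φ := fun v hv => by
      by_contra hne
      exact hfix v v.2 (fun e => hne (Subtype.ext e)) (congrArg Subtype.val hv)
    have hinv : Function.Involutive φ := fun v => Subtype.ext (by
      show k' * (k' * (v : G) * k') * k' = v
      simp only [mul_assoc, htt', hk.sq', mul_one])
    have hφ : ∀ v ∈ R, k' * v * k' = v⁻¹ := fun v hv => congrArg Subtype.val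
      (congrFun (hfpf.coe_eq_inv_of_involutive hinv) ⟨v, hv⟩)
    have hab : ∀ v ∈ R, ∀ w ∈ R, Commute v w := fun v hv w hw => by
      have h := hfpf.commute_all_of_involutive hinv ⟨v, hv⟩ ⟨w, hw⟩
      exact congrArg Subtype.val h.eq
    have hFr : Frame (k * k') k := hk.mul.symm
    -- the two eigen parts are small
    set D : Finset G := Finset.univ.filter fun v => v ∈ R ∧ k * v * k = v⁻¹ with hD
    set E : Finset G := Finset.univ.filter fun v => v ∈ R ∧ k * v * k = v with hE
    have hEc : E.card ≤ 3 := by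
      refine (Finset.card_le_card (t := {1, x, x * x}) fun v hv => ?_).trans Finset.card_le_three
      obtain ⟨hvR, hvk⟩ := (Finset.mem_filter.1 hv).2
      have : Commute v k := by
        show v * k = k * v
        calc v * k = k * v * k * k := by rw [hvk]
          _ = k * v := by rw [mul_assoc, hk.sq, mul_one]
      rcases small hS hk (p27 hxR) (p27 hvR) (p27 (R.mul_mem hxR hvR)) hx.ne hx.comm this with e | e | e <;>
        simp [e]
    have hDc : D.card ≤ 3 := by
      have hcomm : ∀ v ∈ R, k * v * k = v⁻¹ → Commute v (k * k') := by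
        intro v hv hvk
        show v * (k * k') = k * k' * v
        have h1 : v * k = k * v⁻¹ := by
          rw [← hvk]; simp only [← mul_assoc]; rw [hk.sq, one_mul]
        have h2 : v⁻¹ * k' = k' * v := by
          rw [← hφ v hv]; simp only [mul_assoc]; rw [hk.sq', mul_one]
        rw [← mul_assoc, h1, mul_assoc, h2, ← mul_assoc]
      by_cases hd : ∃ d ∈ D, d ≠ 1
      · obtain ⟨d, hd, hd1⟩ := hd
        obtain ⟨hdR, hdk⟩ := (Finset.mem_filter.1 hd).2
        refine (Finset.card_le_card (t := {1, d, d * d}) fun v hv => ?_).trans Finset.card_le_three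
        obtain ⟨hvR, hvk⟩ := (Finset.mem_filter.1 hv).2
        rcases small hS hFr (p27 hdR) (p27 hvR) (p27 (R.mul_mem hdR hvR)) hd1 (hcomm d hdR hdk)
          (hcomm v hvR hvk) with e | e | e <;> simp [e]
      · push_neg at hd
        refine (Finset.card_le_card (t := {1}) fun v hv => ?_).trans (by simp)
        rw [Finset.mem_singleton]; exact hd v hv
    have hkk : ∀ a b : G, k * (a * b) * k = (k * a * k) * (k * b * k) := fun a b => by
      simp only [mul_assoc]; rw [← mul_assoc k k, hk.sq, one_mul]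
    have hkkk : ∀ a : G, k * (k * a * k) * k = a := fun a => by
      simp only [← mul_assoc]; rw [hk.sq, one_mul, mul_assoc, hk.sq, mul_one]
    have hkinv : ∀ a : G, (k * a * k)⁻¹ = k * a⁻¹ * k := fun a => by rw [mul_inv_rev, mul_inv_rev, hki, mul_assoc]
    let ψ : R → D × E := fun v =>
      (⟨(v : G) * (k * (v : G)⁻¹ * k), Finset.mem_filter.2 ⟨Finset.mem_univ _,
          R.mul_mem v.2 (hρ _ (R.inv_mem v.2)), by
            rw [hkk, hkkk, mul_inv_rev, hkinv, inv_inv]⟩⟩,
       ⟨(v : G) * (k * (v : G) * k), Finset.mem_filter.2 ⟨Finset.mem_univ _,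
          R.mul_mem v.2 (hρ _ v.2), by
            rw [hkk, hkkk, (hab _ v.2 _ (hρ _ v.2)).eq]⟩⟩)
    have hψ : Function.Injective ψ := by
      intro v w h
      have h1 : (v : G) * (k * (v : G)⁻¹ * k) = w * (k * (w : G)⁻¹ * k) :=
        congrArg (fun q : D × E => (q.1 : G)) h
      have h2 : (v : G) * (k * (v : G) * k) = w * (k * (w : G) * k) :=
        congrArg (fun q : D × E => (q.2 : G)) h
      have key : ∀ u ∈ R, u * (k * u⁻¹ * k) * (u * (k * u * k)) = u * u := fun u hu => by
        rw [(hab _ (hρ _ (R.inv_mem hu)) _ hu).mul_mul_mul_comm, ← hkinv, inv_mul_cancel, mul_one]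
      have hsq : (v : G) ^ 2 = (w : G) ^ 2 := by
        rw [pow_two, pow_two, ← key _ v.2, ← key _ w.2, h1, h2]
      refine Subtype.ext ?_
      calc (v : G) = ((v : G) ^ 2) ^ 14 := by
            rw [← pow_mul, show 2 * 14 = 1 + 27 by rfl, pow_add, pow_one, p27 v.2, mul_one]
        _ = w := by rw [hsq, ← pow_mul, show 2 * 14 = 1 + 27 by rfl, pow_add, pow_one, p27 w.2, mul_one]
    have hle := Nat.card_le_card_of_injective ψ hψ
    rw [hRc, Nat.card_prod, Nat.card_eq_finsetCard, Nat.card_eq_finsetCard] at hle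
    have := Nat.mul_le_mul hDc hEc
    omega

/-- The three roots in a triangle of frames generate a nonabelian group. -/
theorem not_commute_nbr (hS : Setup t f) {k k' x w w' : G} (hk : Frame k k') (hx : Root k k' x)
    (hw : Root k' k w) (hw' : Root (k * k') k w') (hwx : Commute w x) (hw'x : Commute w' x) :
    ¬ Commute w w' := by
  intro hww
  haveI : Fact (Nat.Prime 3) := ⟨Nat.prime_three⟩
  obtain ⟨R, hRc, hR⟩ := exists_rad hcard hS hk.sq hk.ne hx.cube hx.ne hx.comm
  have hki : k⁻¹ = k := inv_eq_of_mul_eq_one_right hk.sq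
  have hki' : k'⁻¹ = k' := inv_eq_of_mul_eq_one_right hk.sq'
  have hxR : x ∈ R := (hR x).2 ⟨Commute.refl x, pow27_of_cube hx.cube⟩
  have hwR : w ∈ R := (hR w).2 ⟨hwx, pow27_of_cube hw.cube⟩
  have hw'R : w' ∈ R := (hR w').2 ⟨hw'x, pow27_of_cube hw'.cube⟩
  have x3 : x ^ 3 = 1 := by rw [pow_succ, pow_two, hx.cube]
  have w3 : w ^ 3 = 1 := by rw [pow_succ, pow_two, hw.cube]
  have w3' : w' ^ 3 = 1 := by rw [pow_succ, pow_two, hw'.cube]
  -- a homomorphic parametrisation of `R`
  let φ : Fin 3 × Fin 3 × Fin 3 → G := fun p => x ^ (p.1 : ℕ) * (w ^ (p.2.1 : ℕ) * w' ^ (p.2.2 : ℕ))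
  have hφR : ∀ p, φ p ∈ R := fun p =>
    R.mul_mem (R.pow_mem hxR _) (R.mul_mem (R.pow_mem hwR _) (R.pow_mem hw'R _))
  have hmul : ∀ a b c a' b' c' : ℕ, x ^ a * (w ^ b * w' ^ c) * (x ^ a' * (w ^ b' * w' ^ c')) =
      x ^ (a + a') * (w ^ (b + b') * w' ^ (c + c')) := fun a b c a' b' c' => by
    rw [((hwx.pow_pow b a').mul_left (hw'x.pow_pow c a')).mul_mul_mul_comm,
      (hww.symm.pow_pow c b').mul_mul_mul_comm, ← pow_add, ← pow_add, ← pow_add]
  have hone : ∀ a b c : ℕ, a < 3 → b < 3 → c < 3 → x ^ a * (w ^ b * w' ^ c) = 1 → a = 0 ∧ b = 0 ∧ c = 0 := by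
    intro a b c ha hb hc he
    have conj1 : k * (x ^ a * (w ^ b * w' ^ c)) * k⁻¹ = x ^ a * (w⁻¹ ^ b * w'⁻¹ ^ c) := by
      have ex : k * x * k⁻¹ = x := by rw [hx.comm.symm.eq, mul_inv_cancel_right]
      have ew : k * w * k⁻¹ = w⁻¹ := by rw [hki, hw.invert]
      have ew' : k * w' * k⁻¹ = w'⁻¹ := by rw [hki, hw'.invert]
      calc _ = (k * x * k⁻¹) ^ a * ((k * w * k⁻¹) ^ b * (k * w' * k⁻¹) ^ c) := by
            rw [conj_pow, conj_pow, conj_pow]; group
        _ = _ := by rw [ex, ew, ew']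
    rw [he, mul_one, mul_inv_cancel] at conj1
    have h2 : x ^ (a + a) = 1 := by
      have e2 : x ^ a * (w ^ b * w' ^ c) * (x ^ a * (w⁻¹ ^ b * w'⁻¹ ^ c)) = 1 := by rw [he, ← conj1, one_mul]
      rw [((hwx.pow_pow b a).mul_left (hw'x.pow_pow c a)).mul_mul_mul_comm, ← pow_add, inv_pow, inv_pow,
        ← mul_inv_rev, (hww.pow_pow b c).eq, mul_inv_cancel, mul_one] at e2
      exact e2
    have ha0 : a = 0 := by
      interval_cases a
      · rfl
      · rw [pow_two] at h2
        refine absurd ?_ hx.ne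
        have := hx.cube; rwa [h2, one_mul] at this
      · rw [show 2 + 2 = 3 + 1 by rfl, pow_add, x3, one_mul, pow_one] at h2
        exact absurd h2 hx.ne
    subst ha0
    rw [pow_zero, one_mul] at he
    refine ⟨rfl, ?_⟩
    have hwk : k' * w * k'⁻¹ = w := by rw [hw.comm.symm.eq, mul_inv_cancel_right]
    have hwk' : k' * w' * k'⁻¹ = w'⁻¹ := by
      have h : k * k' * w' * (k * k') = w' := by
        rw [← hw'.comm.eq, mul_assoc, hk.mul.sq', mul_one]
      rw [hki']
      calc k' * w' * k' = k * (k * k' * w' * (k * k')) * k := by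
            have hkk : ∀ v : G, k * (k * v) = v := fun v => by rw [← mul_assoc, hk.sq, one_mul]
            have hc' : k * k' * k = k' := by rw [hk.comm.eq, mul_assoc, hk.sq, mul_one]
            symm
            simp only [mul_assoc, hkk]
            simp only [← mul_assoc]
            rw [mul_assoc _ k k', mul_assoc _ (k * k') k, hc']
        _ = w'⁻¹ := by rw [h, hw'.invert]
    have conj2 : w ^ b * w'⁻¹ ^ c = 1 := by
      calc w ^ b * w'⁻¹ ^ c = (k' * w * k'⁻¹) ^ b * (k' * w' * k'⁻¹) ^ c := by rw [hwk, hwk']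
        _ = k' * (w ^ b * w' ^ c) * k'⁻¹ := by rw [conj_pow, conj_pow]; group
        _ = 1 := by rw [he, mul_one, mul_inv_cancel]
    have hb2 : w ^ (b + b) = 1 := by
      have e2 : w ^ b * w' ^ c * (w ^ b * w'⁻¹ ^ c) = 1 := by rw [he, conj2, one_mul]
      rw [(hww.symm.pow_pow c b).mul_mul_mul_comm, ← pow_add, inv_pow, mul_inv_cancel, mul_one] at e2
      exact e2
    have hb0 : b = 0 := by
      interval_cases b
      · rfl
      · rw [pow_two] at hb2
        refine absurd ?_ hw.ne
        have := hw.cube; rwa [hb2, one_mul] at this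
      · rw [show 2 + 2 = 3 + 1 by rfl, pow_add, w3, one_mul, pow_one] at hb2
        exact absurd hb2 hw.ne
    subst hb0
    rw [pow_zero, one_mul] at he
    refine ⟨rfl, ?_⟩
    by_contra hc0
    rw [← orderOf_dvd_iff_pow_eq_one, orderOf_eq_prime w3' hw'.ne] at he
    omega
  have hinj : Function.Injective φ := by
    rintro ⟨a, b, c⟩ ⟨a', b', c'⟩ h
    have h' : x ^ (a : ℕ) * (w ^ (b : ℕ) * w' ^ (c : ℕ)) = x ^ (a' : ℕ) * (w ^ (b' : ℕ) * w' ^ (c' : ℕ)) := h
    have h1 : x ^ (((a : ℕ) + (3 - a')) % 3) * (w ^ (((b : ℕ) + (3 - b')) % 3) * w' ^ (((c : ℕ) + (3 - c')) % 3))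
        = 1 := by
      rw [← pow_eq_pow_mod _ x3, ← pow_eq_pow_mod _ w3, ← pow_eq_pow_mod _ w3', ← hmul, h', hmul,
        Nat.add_sub_cancel' a'.is_lt.le, Nat.add_sub_cancel' b'.is_lt.le, Nat.add_sub_cancel' c'.is_lt.le,
        x3, w3, w3', one_mul, one_mul]
    obtain ⟨e1, e2, e3⟩ := hone _ _ _ (Nat.mod_lt _ (by norm_num)) (Nat.mod_lt _ (by norm_num))
      (Nat.mod_lt _ (by norm_num)) h1
    have := a.is_lt; have := a'.is_lt; have := b.is_lt; have := b'.is_lt; have := c.is_lt; have := c'.is_lt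
    refine Prod.ext (Fin.ext ?_) (Prod.ext (Fin.ext ?_) (Fin.ext ?_))
    · show (a : ℕ) = a'; omega
    · show (b : ℕ) = b'; omega
    · show (c : ℕ) = c'; omega
  have hsurj : ∀ v ∈ R, ∃ p, φ p = v := by
    let φ' : Fin 3 × Fin 3 × Fin 3 → R := fun p => ⟨φ p, hφR p⟩
    have hb : Function.Bijective φ' := by
      rw [Fintype.bijective_iff_injective_and_card]
      exact ⟨fun p q h => hinj (congrArg Subtype.val h),
        by rw [← Nat.card_eq_fintype_card, ← Nat.card_eq_fintype_card, hRc]; simp⟩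
    intro v hv
    obtain ⟨p, hp⟩ := hb.2 ⟨v, hv⟩
    exact ⟨p, congrArg Subtype.val hp⟩
  have hab : ∀ v ∈ R, ∀ u ∈ R, Commute v u := by
    intro v hv u hu
    obtain ⟨⟨a, b, c⟩, rfl⟩ := hsurj v hv
    obtain ⟨⟨a', b', c'⟩, rfl⟩ := hsurj u hu
    show x ^ (a : ℕ) * (w ^ (b : ℕ) * w' ^ (c : ℕ)) * (x ^ (a' : ℕ) * (w ^ (b' : ℕ) * w' ^ (c' : ℕ))) = _
    rw [hmul, add_comm (a : ℕ), add_comm (b : ℕ), add_comm (c : ℕ), ← hmul]
  have hexp : ∀ v ∈ R, v * v * v = 1 := by
    intro v hv
    obtain ⟨⟨a, b, c⟩, rfl⟩ := hsurj v hv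
    show x ^ (a : ℕ) * (w ^ (b : ℕ) * w' ^ (c : ℕ)) * (x ^ (a : ℕ) * (w ^ (b : ℕ) * w' ^ (c : ℕ))) *
      (x ^ (a : ℕ) * (w ^ (b : ℕ) * w' ^ (c : ℕ))) = 1
    rw [hmul, hmul, show (a : ℕ) + a + a = 3 * a by ring, show (b : ℕ) + b + b = 3 * b by ring,
      show (c : ℕ) + c + c = 3 * c by ring, pow_mul, pow_mul, pow_mul, x3, w3, w3', one_pow, one_pow, one_pow,
      one_mul, one_mul]
  -- conjugates of `x` in `R` come from the normaliser
  set N := Subgroup.normalizer (R : Set G) with hN
  set C := Subgroup.centralizer ({x} : Set G) with hC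
  have hC54 : Nat.card C = 54 := card_centralizer_of_comm hcard hS hk.sq hk.ne hx.cube hx.ne hx.comm
  have hmemN : ∀ g : G, (∀ v ∈ R, g * v * g⁻¹ ∈ R) → g ∈ N := by
    intro g hg
    have hmap : R.map (MulAut.conj g).toMonoidHom = R := by
      refine Subgroup.eq_of_le_of_card_ge ?_ ?_
      · rintro _ ⟨v, hv, rfl⟩; exact hg v hv
      · rw [Subgroup.card_map_of_injective (MulAut.conj g).injective]
    rw [hN, Subgroup.mem_normalizer_iff]
    refine fun v => ⟨hg v, fun hv => ?_⟩
    rw [← hmap] at hv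
    obtain ⟨u, hu, e⟩ := hv
    have : u = v := (MulAut.conj g).injective e
    exact this ▸ hu
  have hCN : C ≤ N := fun g hg => hmemN g fun v hv =>
    rad_conj hcard hR (Or.inl (by
      rw [Subgroup.mem_centralizer_singleton_iff.1 hg, mul_inv_cancel_right])) hv
  let S : Finset G := Finset.univ.filter fun y => y ∈ R ∧ IsConj x y
  have hconjN : ∀ y ∈ S, ∃ n ∈ N, n * x * n⁻¹ = y := by
    intro y hy
    obtain ⟨hyR, hyx⟩ := (Finset.mem_filter.1 hy).2
    obtain ⟨g, hg⟩ := isConj_iff.1 hyx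
    refine ⟨g, hmemN g fun v hv => ?_, hg⟩
    have hy' : Nat.card (Subgroup.centralizer ({y} : Set G)) = 54 := by rw [card_centralizer_conj hyx, ← hC, hC54]
    obtain ⟨R', hR'c, hR'⟩ := exists_rad hcard hS (k := g * k * g⁻¹) (x := y)
      (by rw [show g * k * g⁻¹ * (g * k * g⁻¹) = g * (k * k) * g⁻¹ by group, hk.sq, mul_one, mul_inv_cancel])
      (by rw [ne_eq, conj_eq_one_iff]; exact hk.ne)
      (hexp y hyR) (by rw [← hg, ne_eq, conj_eq_one_iff]; exact hx.ne)
      (by
        show y * (g * k * g⁻¹) = g * k * g⁻¹ * y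
        rw [← hg, show g * x * g⁻¹ * (g * k * g⁻¹) = g * (x * k) * g⁻¹ by group, hx.comm.eq]; group)
    have hRR' : R = R' := Subgroup.eq_of_le_of_card_ge
      (fun u hu => (hR' u).2 ⟨hab u hu y hyR, pow27_of_cube (hexp u hu)⟩) (by rw [hRc, hR'c])
    rw [hRR', hR', conj_pow, ((hR v).1 hv).2, mul_one, mul_inv_cancel]
    refine ⟨?_, rfl⟩
    show g * v * g⁻¹ * y = y * (g * v * g⁻¹)
    rw [← hg, show g * v * g⁻¹ * (g * x * g⁻¹) = g * (v * x) * g⁻¹ by group, ((hR v).1 hv).1.eq]; group
  choose nf hnf hnf' using hconjN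
  have hmem : ∀ n ∈ N, n * x * n⁻¹ ∈ S := fun n hn =>
    Finset.mem_filter.2 ⟨Finset.mem_univ _, (Subgroup.mem_normalizer_iff.1 hn x).1 hxR, isConj_iff.2 ⟨n, rfl⟩⟩
  have hNcard : Nat.card N = S.card * 54 := by
    rw [← hC54, ← Nat.card_eq_finsetCard S, ← Nat.card_prod]
    refine Nat.card_congr (Equiv.ofBijective
      (fun n : N => ((⟨(n : G) * x * (n : G)⁻¹, hmem n n.2⟩ : S),
        (⟨(nf _ (hmem n n.2))⁻¹ * n, ?_⟩ : C))) ⟨?_, ?_⟩)
    · rw [hC, Subgroup.mem_centralizer_singleton_iff]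
      have h := hnf' _ (hmem n n.2)
      generalize nf _ (hmem n n.2) = m at h ⊢
      calc m⁻¹ * (n : G) * x = m⁻¹ * ((n : G) * x * (n : G)⁻¹) * (n : G) := by group
        _ = x * (m⁻¹ * (n : G)) := by rw [← h]; group
    · intro a b h
      have h1 : (a : G) * x * (a : G)⁻¹ = (b : G) * x * (b : G)⁻¹ :=
        congrArg (fun q : S × C => (q.1 : G)) h
      have h2 : (nf _ (hmem a a.2))⁻¹ * (a : G) = (nf _ (hmem b b.2))⁻¹ * (b : G) :=
        congrArg (fun q : S × C => (q.2 : G)) h
      have : nf _ (hmem a a.2) = nf _ (hmem b b.2) := by congr 1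
      rw [this] at h2
      exact Subtype.ext (mul_left_cancel h2)
    · rintro ⟨⟨y, hy⟩, ⟨c, hc⟩⟩
      have e : nf y hy * c * x * (nf y hy * c)⁻¹ = y := by
        rw [mul_assoc (nf y hy) c x, Subgroup.mem_centralizer_singleton_iff.1 hc]
        conv_rhs => rw [← hnf' y hy]
        group
      refine ⟨⟨nf y hy * c, N.mul_mem (hnf y hy) (hCN hc)⟩, Prod.ext (Subtype.ext e) (Subtype.ext ?_)⟩
      show (nf _ _)⁻¹ * (nf y hy * c) = c
      have : ∀ (y' : G) (hy' : y' ∈ S), y' = y → nf y' hy' = nf y hy := by rintro y' hy' rfl; rfl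
      rw [this _ _ e, inv_mul_cancel_left]
  obtain ⟨P, hP⟩ : ∃ P : Sylow 3 G, (P : Subgroup G) = R :=
    ⟨Sylow.ofCard R (by
      rw [hRc, hcard, show (5616 : ℕ) = 3 ^ 3 * 208 by norm_num, Nat.factorization_mul (by norm_num) (by norm_num),
        Finsupp.add_apply, (by norm_num : (3 : ℕ).Prime).factorization_pow, Finsupp.single_eq_same,
        Nat.factorization_eq_zero_of_not_dvd (by norm_num : ¬ 3 ∣ 208)]
      norm_num), rfl⟩
  have hmulN : Nat.card N * Nat.card (Sylow 3 G) = 5616 := by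
    have e : Subgroup.normalizer (P : Set G) = N := by rw [hN, ← hP]; rfl
    rw [Sylow.card_eq_index_normalizer P, e]; exact (Subgroup.card_mul_index _).trans hcard
  have hmod : Nat.card (Sylow 3 G) % 3 = 1 := card_sylow_modEq_one 3 G
  have h5 := SmallSimple.five_le_card_sylow (not_comm f) (p := 3) (by rw [hcard]; norm_num)
  -- six known conjugates
  have hconj : ∀ {a b y : G}, Frame a b → Root a b y → IsConj x y := fun ha hy =>
    (exists_conj_uu hS hk.sq hk.ne hx.cube hx.ne hx.comm).symm.trans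
      (exists_conj_uu hS ha.sq ha.ne hy.cube hy.ne hy.comm)
  have hk'' : Frame (k * k') k := hk.mul.symm
  let six : Finset G := {x, x * x, w, w * w, w', w' * w'}
  have hsix : six ⊆ S := by
    intro y hy
    simp only [six, Finset.mem_insert, Finset.mem_singleton] at hy
    refine Finset.mem_filter.2 ⟨Finset.mem_univ _, ?_⟩
    rcases hy with rfl | rfl | rfl | rfl | rfl | rfl
    · exact ⟨hxR, hconj hk hx⟩
    · exact ⟨R.mul_mem hxR hxR, hconj hk (Root.sq hk.sq' hx)⟩
    · exact ⟨hwR, hconj hk.symm hw⟩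
    · exact ⟨R.mul_mem hwR hwR, hconj hk.symm (Root.sq hk.sq hw)⟩
    · exact ⟨hw'R, hconj hk'' hw'⟩
    · exact ⟨R.mul_mem hw'R hw'R, hconj hk'' (Root.sq hk.sq hw')⟩
  have hsix6 : six.card = 6 := by
    have e : six = ({(1, 0, 0), (2, 0, 0), (0, 1, 0), (0, 2, 0), (0, 0, 1), (0, 0, 2)} :
        Finset (Fin 3 × Fin 3 × Fin 3)).image φ := by
      simp [six, φ, Finset.image_insert, pow_two]
    rw [e, Finset.card_image_of_injective _ hinj]
    rfl
  have hS6 : 6 ≤ S.card := hsix6 ▸ Finset.card_le_card hsix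
  have hS8 : S.card = 8 := by
    rw [hNcard] at hmulN
    have hd : ∀ n ∈ Nat.divisors 104, 6 ≤ 104 / n → n % 3 = 1 → 5 ≤ n → n = 13 := by decide +kernel
    have h104 : S.card * Nat.card (Sylow 3 G) = 104 := by nlinarith
    have hn := hd _ (Nat.mem_divisors.2 ⟨⟨S.card, by rw [mul_comm]; exact h104.symm⟩, by norm_num⟩)
      (by rw [← h104, Nat.mul_div_cancel _ (by omega)]; exact hS6) hmod h5
    rw [hn] at h104; omega
  -- the other two
  let E : Finset G := S.filter fun y => ¬ Commute y k ∧ ¬ Commute y k' ∧ ¬ Commute y (k * k')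
  have hEsix : S \ six ⊆ E := by
    intro y hy
    obtain ⟨hyS, hy6⟩ := Finset.mem_sdiff.1 hy
    obtain ⟨hyR, hyx⟩ := (Finset.mem_filter.1 hyS).2
    have y27 := pow27_of_cube (hexp y hyR)
    have hy1 : y ≠ 1 := fun e => hx.ne (isConj_one_left.1 (e ▸ hyx))
    simp only [six, Finset.mem_insert, Finset.mem_singleton, not_or] at hy6
    obtain ⟨n1, n2, n3, n4, n5, n6⟩ := hy6
    refine Finset.mem_filter.2 ⟨hyS, fun h => ?_, fun h => ?_, fun h => ?_⟩
    · rcases small hS hk (pow27_of_cube hx.cube) y27 (pow27_of_cube (hexp _ (R.mul_mem hxR hyR))) hx.ne hx.comm h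
        with e | e | e
      exacts [hy1 e, n1 e, n2 e]
    · rcases small hS hk.symm (pow27_of_cube hw.cube) y27 (pow27_of_cube (hexp _ (R.mul_mem hwR hyR))) hw.ne
        hw.comm h with e | e | e
      exacts [hy1 e, n3 e, n4 e]
    · rcases small hS hk'' (pow27_of_cube hw'.cube) y27 (pow27_of_cube (hexp _ (R.mul_mem hw'R hyR))) hw'.ne
        hw'.comm h with e | e | e
      exacts [hy1 e, n5 e, n6 e]
  have hE2 : E.card = 2 := by
    have h1 := Finset.card_le_card hEsix
    rw [Finset.card_sdiff_of_subset hsix, hS8, hsix6] at h1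
    have h2 : six ⊆ S \ E := fun y hy => by
      refine Finset.mem_sdiff.2 ⟨hsix hy, fun hE => ?_⟩
      obtain ⟨-, e1, e2, e3⟩ := Finset.mem_filter.1 hE
      simp only [six, Finset.mem_insert, Finset.mem_singleton] at hy
      rcases hy with rfl | rfl | rfl | rfl | rfl | rfl
      exacts [e1 hx.comm, e1 (hx.comm.mul_left hx.comm), e2 hw.comm, e2 (hw.comm.mul_left hw.comm), e3 hw'.comm,
        e3 (hw'.comm.mul_left hw'.comm)]
    have h3 := Finset.card_le_card h2
    have hES : E ⊆ S := Finset.filter_subset _ _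
    have h4 := Finset.card_sdiff_add_card_eq_card hES
    omega
  have hEstab : ∀ u : G, u * u = 1 → (u * x * u = x ∨ u * x * u = x⁻¹) → Commute u k → Commute u k' →
      ∀ y ∈ E, u * y * u ∈ E := by
    intro u hu hux huk huk' y hy
    obtain ⟨hyS, e1, e2, e3⟩ := Finset.mem_filter.1 hy
    obtain ⟨hyR, hyx⟩ := (Finset.mem_filter.1 hyS).2
    have hui : u⁻¹ = u := inv_eq_of_mul_eq_one_right hu
    have hmem' : u * y * u ∈ R := by
      have := rad_conj hcard hR (k := u) (by rw [hui]; exact hux) hyR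
      rwa [hui] at this
    have hback : ∀ v, Commute u v → Commute (u * y * u) v → Commute y v := by
      intro v huv h
      have := (huv.mul_left h).mul_left huv
      rwa [show u * (u * y * u) * u = (u * u) * y * (u * u) by group, hu, one_mul, mul_one] at this
    exact Finset.mem_filter.2 ⟨Finset.mem_filter.2 ⟨Finset.mem_univ _, hmem',
        hyx.trans (isConj_iff.2 ⟨u, by rw [hui]⟩)⟩,
      fun h => e1 (hback _ huk h), fun h => e2 (hback _ huk' h), fun h => e3 (hback _ (huk.mul_right huk') h)⟩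
  obtain ⟨y, hy⟩ := Finset.card_pos.1 (by omega : 0 < E.card)
  have h1 := hEstab k hk.sq (Or.inl (by rw [hx.comm.symm.eq, mul_assoc, hk.sq, mul_one])) (Commute.refl k)
    hk.comm y hy
  have h2 := hEstab k' hk.sq' (Or.inr hx.invert) hk.comm.symm (Commute.refl k') y hy
  obtain ⟨-, e1, e2, e3⟩ := Finset.mem_filter.1 hy
  have n1 : k * y * k ≠ y := fun e => e1 (by
    show y * k = k * y
    calc y * k = k * y * k * k := by rw [e]
      _ = k * y := by rw [mul_assoc, hk.sq, mul_one])
  have n2 : k' * y * k' ≠ y := fun e => e2 (by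
    show y * k' = k' * y
    calc y * k' = k' * y * k' * k' := by rw [e]
      _ = k' * y := by rw [mul_assoc, hk.sq', mul_one])
  have heq : k * y * k = k' * y * k' := by
    by_contra hne
    have : ({y, k * y * k, k' * y * k'} : Finset G) ⊆ E := by
      intro v hv
      simp only [Finset.mem_insert, Finset.mem_singleton] at hv
      rcases hv with rfl | rfl | rfl <;> assumption
    have h3 := Finset.card_le_card this
    rw [hE2, Finset.card_eq_three.2 ⟨y, k * y * k, k' * y * k', n1.symm, n2.symm, hne, rfl⟩] at h3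
    omega
  refine e3 ?_
  show y * (k * k') = k * k' * y
  have h : y * k = k * (k' * y * k') := by
    rw [← heq]; simp only [← mul_assoc]; rw [hk.sq, one_mul]
  calc y * (k * k') = k * (k' * y * k') * k' := by rw [← mul_assoc, h]
    _ = k * k' * y * (k' * k') := by group
    _ = k * k' * y := by rw [hk.sq', mul_one]

/-- A commutator of two neighbours of a root. -/
theorem comm_cases (hS : Setup t f) {k x p q : G} (hk : k * k = 1) (hk1 : k ≠ 1) (hx : x * x * x = 1)
    (hx1 : x ≠ 1) (hc : Commute x k) (hp : Commute p x) (hp3 : p * p * p = 1) (hq : Commute q x)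
    (hq3 : q * q * q = 1) (hne : ¬ Commute p q) : p * q = x * q * p ∨ p * q = x * x * q * p := by
  haveI : Fact (Nat.Prime 3) := ⟨Nat.prime_three⟩
  obtain ⟨R, hRc, hR⟩ := exists_rad hcard hS hk hk1 hx hx1 hc
  have hxR : x ∈ R := (hR x).2 ⟨Commute.refl x, pow27_of_cube hx⟩
  let xR : R := ⟨x, hxR⟩
  set Z := Subgroup.zpowers xR
  haveI : Z.Normal := ⟨fun v hv g => by
    obtain ⟨i, rfl⟩ := hv
    have hgx : Commute g xR := Subtype.ext ((hR g).1 g.2).1.eq
    rw [(hgx.zpow_right i).eq, mul_inv_cancel_right]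
    exact ⟨i, rfl⟩⟩
  have hxo : orderOf xR = 3 := orderOf_eq_prime (Subtype.ext (by
    show x ^ 3 = 1
    rw [pow_succ, pow_two, hx])) fun e => hx1 (congrArg Subtype.val e)
  have hZ9 : Nat.card (R ⧸ Z) = 3 ^ 2 := by
    have := Subgroup.card_eq_card_quotient_mul_card_subgroup Z
    rw [hRc, Nat.card_zpowers, hxo] at this
    omega
  haveI := IsPGroup.isMulCommutative_of_card_eq_prime_sq (p := 3) (G := R ⧸ Z) hZ9
  let pR : R := ⟨p, (hR p).2 ⟨hp, pow27_of_cube hp3⟩⟩
  let qR : R := ⟨q, (hR q).2 ⟨hq, pow27_of_cube hq3⟩⟩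
  have hmem : pR * qR * (qR * pR)⁻¹ ∈ Z := by
    rw [← QuotientGroup.eq_one_iff, QuotientGroup.mk_mul, QuotientGroup.mk_inv, QuotientGroup.mk_mul,
      QuotientGroup.mk_mul, mul_inv_eq_one]
    exact IsMulCommutative.is_comm.comm _ _
  obtain ⟨i, hi⟩ := (isOfFinOrder_of_finite xR).mem_powers_iff_mem_zpowers.2 hmem
  have hi' : x ^ (i % 3) * (q * p) = p * q := by
    have e : xR ^ (i % 3) = pR * qR * (qR * pR)⁻¹ := by rw [← hxo, pow_mod_orderOf]; exact hi
    have e' : x ^ (i % 3) = p * q * (q * p)⁻¹ := congrArg Subtype.val e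
    rw [e', inv_mul_cancel_right]
  have := Nat.mod_lt i (show 3 > 0 by norm_num)
  interval_cases hi3 : i % 3
  · exact absurd (show Commute p q from by
      show p * q = q * p
      rw [← hi', pow_zero, one_mul]) hne
  · left; rw [← hi', pow_one, mul_assoc]
  · right; rw [← hi', pow_two, mul_assoc (x * x)]

/-- A simple group of order 5616 with involution centraliser `GL(2, 3)` satisfies the Steinberg relations. -/
theorem exists_rels (hS : Setup t f) : ∃ S : SL2Presentation.Rels (ZMod 3) 3 G, S.x 0 1 1 ≠ 1 := by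
  obtain ⟨u3, u1, l3, l1, su, sl, hUL, hLU, hW⟩ := uu_ll_facts
  have hf : Function.Injective (emb' f : M →* G) := emb'_injective
  have htz : emb' f z = t := hS.tz
  obtain ⟨-, -, -, hz2, hz1⟩ := s₀_facts
  have hs2 : s₀ * s₀ = (1 : M) ∧ s₀ ≠ 1 ∧ z ≠ s₀ := by decide +kernel
  set s := emb' f s₀ with hsdef
  have hF1 : Frame t s := ⟨by rw [← htz, ← map_mul, hz2, map_one],
    fun e => hz1 (hf ((htz.trans e).trans (map_one _).symm)), by rw [hsdef, ← map_mul, hs2.1, map_one],
    fun e => hs2.2.1 (hf (by rw [← hsdef, e, map_one])), (commute_emb' s₀).symm,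
    fun e => hs2.2.2 (hf (htz.trans e))⟩
  have hti : t⁻¹ = t := inv_eq_of_mul_eq_one_right hF1.sq
  set a12 := emb' f uu with h12
  set a21 := emb' f ll with h21
  have r12 : Root t s a12 := ⟨by rw [h12, ← map_mul, ← map_mul, u3, map_one],
    fun e => u1 (hf (by rw [← h12, e, map_one])), commute_emb' uu,
    by rw [hsdef, h12, ← map_mul, ← map_mul, su, map_inv]⟩
  have r21 : Root t s a21 := ⟨by rw [h21, ← map_mul, ← map_mul, l3, map_one],
    fun e => l1 (hf (by rw [← h21, e, map_one])), commute_emb' ll,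
    by rw [hsdef, h21, ← map_mul, ← map_mul, sl, map_inv]⟩
  have hUL' : a12 * a21 * (a12 * a21) = t := by rw [h12, h21, ← map_mul, ← map_mul, hUL, htz]
  have hLU' : a21 * a12 * (a21 * a12) = t := by rw [h12, h21, ← map_mul, ← map_mul, hLU, htz]
  have notboth : ∀ y : G, y * y * y = 1 → y ≠ 1 → t * y * t = y⁻¹ → Commute y a12 → Commute y a21 → False := by
    intro y y3 y1 hy hc1 hc2
    have h : Commute y t := hUL' ▸ ((hc1.mul_right hc2).mul_right (hc1.mul_right hc2))
    rw [h.symm.eq, mul_assoc, hF1.sq, mul_one] at hy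
    exact y1 (eq_one_of_inv_eq y3 hy)
  have hF2 : Frame s t := hF1.symm
  have hF3 : Frame (t * s) t := hF1.mul.symm
  have hF1' : Frame t (t * s) := hF1.mul
  obtain ⟨b32, r32₀, c32₀⟩ := exists_nbr hcard hS hF1 r12
  obtain ⟨a23, r23, c23⟩ := exists_nbr hcard hS hF1 r21
  have r12' := r12.other hF1
  have r21' := r21.other hF1
  obtain ⟨b13, rb13, cb13⟩ := exists_nbr hcard hS hF1' r12'
  obtain ⟨b31, rb31, cb31⟩ := exists_nbr hcard hS hF1' r21'
  have toF2 : ∀ {y : G}, Root s (t * s) y → Root s t y := by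
    intro y hy
    have hts : Frame s (t * s) := by
      have := hF2.mul
      rwa [hF1.comm.symm.eq] at this
    have h := hy.other hts
    rwa [show s * (t * s) = t from by rw [← mul_assoc, hF1.comm.symm.eq, mul_assoc, hF1.sq', mul_one]] at h
  have hst : s * t = t * s := hF1.comm.symm.eq
  have r23' : Root s (t * s) a23 := hst ▸ r23.other hF2
  have r32₀' : Root s (t * s) b32 := hst ▸ r32₀.other hF2
  have tst : t * s * t = s := by rw [mul_assoc, hst, ← mul_assoc, hF1.sq, one_mul]
  have neighbour : ∀ {y : G}, Root (t * s) t y → Commute y b32 ∨ Commute y a23 := by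
    intro y hy
    obtain ⟨v, rv, cv⟩ := exists_nbr hcard hS hF3.mul (hy.other hF3)
    rw [tst] at rv
    rcases roots_cases hS hF2 r32₀ r23 (toF2 rv) with e | e | e | e | e | e
    · exact Or.inl (e ▸ cv.symm)
    · left
      rw [e] at cv
      have h2 := cv.symm.mul_right cv.symm
      rwa [show b32 * b32 * (b32 * b32) = b32 * b32 * b32 * b32 by group, r32₀.cube, one_mul] at h2
    · exact Or.inr (e ▸ cv.symm)
    · right
      rw [e] at cv
      have h2 := cv.symm.mul_right cv.symm
      rwa [show a23 * a23 * (a23 * a23) = a23 * a23 * a23 * a23 by group, r23.cube, one_mul] at h2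
    · exfalso
      exact notboth a23 r23.cube r23.ne r23.invert (e ▸ c32₀) c23
    · exfalso
      refine notboth a23 r23.cube r23.ne r23.invert ?_ c23
      rw [e]; exact c32₀.mul_left c32₀
  have c13_23 : Commute b13 a23 := (neighbour rb13).resolve_left fun h =>
    not_commute_nbr hcard hS hF1 r12 r32₀ rb13 c32₀ cb13 h.symm
  have c31_32 : Commute b31 b32 := (neighbour rb31).resolve_right fun h =>
    not_commute_nbr hcard hS hF1 r21 r23 rb31 c23 cb31 h.symm
  -- the chain through `b13`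
  have r23ts : Root (t * s * t) (t * s) a23 := tst.symm ▸ r23'
  have n12_23 : ¬ Commute a12 a23 :=
    not_commute_nbr hcard hS hF3 rb13 r12' r23ts cb13.symm c13_23.symm
  obtain ⟨a13, r13, c13, d13, h123⟩ : ∃ c, Root (t * s) t c ∧ Commute c a12 ∧ Commute c a23 ∧
      a12 * a23 = c * a23 * a12 := by
    rcases comm_cases hcard hS hF3.sq hF3.ne rb13.cube rb13.ne rb13.comm cb13.symm r12.cube c13_23.symm r23.cube
      n12_23 with e | e
    · exact ⟨b13, rb13, cb13, c13_23, e⟩
    · exact ⟨b13 * b13, Root.sq hF1.sq rb13, cb13.mul_left cb13, c13_23.mul_left c13_23, e⟩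
  have r32ts : Root (t * s * t) (t * s) b32 := tst.symm ▸ r32₀'
  obtain ⟨a32, r32, c32, d32, h132⟩ : ∃ c, Root s t c ∧ Commute c a12 ∧ Commute c b31 ∧
      a13 * c = a12 * c * a13 := by
    have hne : ¬ Commute a13 b32 := fun h =>
      not_commute_nbr hcard hS hF1 r12 r32₀ r13 c32₀ c13 h.symm
    rcases comm_cases hcard hS hF1.sq hF1.ne r12.cube r12.ne r12.comm c13 r13.cube c32₀ r32₀.cube hne with e | e
    · exact ⟨b32, r32₀, c32₀, c31_32.symm, e⟩
    · refine ⟨b32 * b32, Root.sq hF1.sq r32₀, c32₀.mul_left c32₀, c31_32.symm.mul_left c31_32.symm, ?_⟩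
      have h := chain_pow e (c13.symm.mul_left c13.symm) (c32₀.symm.mul_left c32₀.symm) 1 2
      simp only [pow_one, pow_two, one_mul] at h
      rwa [show a12 * a12 * (a12 * a12) = a12 * a12 * a12 * a12 by group, r12.cube, one_mul] at h
  have r32' : Root (t * s * t) (t * s) a32 := by
    rw [tst]; exact hst ▸ r32.other hF2
  obtain ⟨a31, r31, c31, d31, h321⟩ : ∃ c, Root (t * s) t c ∧ Commute c a21 ∧ Commute c a32 ∧
      a32 * a21 = c * a21 * a32 := by
    have hne : ¬ Commute a32 a21 := fun h =>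
      not_commute_nbr hcard hS hF3 rb31 r21' r32' cb31.symm d32 h.symm
    rcases comm_cases hcard hS hF3.sq hF3.ne rb31.cube rb31.ne rb31.comm d32 r32.cube cb31.symm r21.cube hne
      with e | e
    · exact ⟨b31, rb31, cb31, d32.symm, e⟩
    · exact ⟨b31 * b31, Root.sq hF1.sq rb31, cb31.mul_left cb31, d32.symm.mul_left d32.symm, e⟩
  -- `a21`, `a13`
  have htinv : ∀ {y : G}, t * y * t = y⁻¹ → t * y = y⁻¹ * t := fun {y} h => by
    rw [← h, mul_assoc (t * y), hF1.sq, mul_one]
  have r21s : Root t s a21 := r21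
  have h213 : a21 * a13 = a23 * a13 * a21 := by
    have hts : s * t = t * s := hst
    have hne : ¬ Commute a21 a13 := by
      have r13' : Root (s * t) s a13 := by
        have := r13.other hF3
        rw [tst] at this
        rwa [hst]
      exact not_commute_nbr hcard hS hF2 r23 r21 r13' c23.symm d13
    rcases comm_cases hcard hS hF2.sq hF2.ne r23.cube r23.ne r23.comm c23.symm r21.cube d13 r13.cube hne with e | e
    · exact e
    · exfalso
      exact eps hUL' (htinv r23.invert) h123 c13.symm c23.symm e d13 r13.cube r23.cube r23.ne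
  have h312 : a31 * a12 = a32 * a12 * a31 := by
    have hne : ¬ Commute a31 a12 := by
      have r31' : Root (s * t) s a31 := by
        have := r31.other hF3
        rw [tst] at this
        rwa [hst]
      exact fun h => not_commute_nbr hcard hS hF2 r32 r12 r31' c32.symm d31 h.symm
    rcases comm_cases hcard hS hF2.sq hF2.ne r32.cube r32.ne r32.comm d31 r31.cube c32.symm r12.cube hne with e | e
    · exact e
    · exfalso
      have c32a : Commute a32 a31 := d31.symm
      have hp : a32 * a32 * a32 = 1 := r32.cube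
      have e1 : a12 * a31 = a32 * a31 * a12 := by
        calc a12 * a31 = (a32 * a32 * a32) * (a12 * a31) := by rw [hp, one_mul]
          _ = a32 * (a32 * a32 * a12 * a31) := by group
          _ = a32 * (a31 * a12) := by rw [← e]
          _ = _ := by group
      have e2 := chain_pow e1 c32 c32a 1 2
      have e3 : a21 * a32 = a31 * a31 * a32 * a21 := by
        calc a21 * a32 = (a31 * a31 * a31) * (a21 * a32) := by rw [r31.cube, one_mul]
          _ = a31 * a31 * (a31 * a21 * a32) := by group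
          _ = a31 * a31 * (a32 * a21) := by rw [← h321]
          _ = _ := by group
      simp only [pow_one, pow_two, one_mul] at e2
      exact eps hLU' (htinv r32.invert) e3 (c31.symm.mul_right c31.symm) c32.symm e2
        (d31.mul_left d31) (Root.sq hF1.sq r31).cube r32.cube r32.ne
  have h231 : a23 * a31 = a21 * a31 * a23 := by
    set W := a12 * a21⁻¹ * a12 with hWdef
    have w12 : W * a12 * W⁻¹ = a21⁻¹ := by
      rw [hWdef, h12, h21]; simp only [← map_mul, ← map_inv]; rw [hW]
    have w13 : W * a13 * W⁻¹ = a23⁻¹ := by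
      have g1 : a21⁻¹ * a13 * a21 = a23⁻¹ * a13 := by
        calc a21⁻¹ * a13 * a21 = a21⁻¹ * (a23⁻¹ * (a23 * a13 * a21)) := by group
          _ = a21⁻¹ * (a23⁻¹ * (a21 * a13)) := by rw [h213]
          _ = a21⁻¹ * (a23⁻¹ * a21) * a13 := by group
          _ = a21⁻¹ * (a21 * a23⁻¹) * a13 := by rw [c23.inv_left.eq]
          _ = _ := by group
      calc W * a13 * W⁻¹ = a12 * (a21⁻¹ * (a12 * a13 * a12⁻¹) * a21) * a12⁻¹ := by rw [hWdef]; group
        _ = a12 * (a21⁻¹ * a13 * a21) * a12⁻¹ := by rw [c13.symm.eq, mul_inv_cancel_right]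
        _ = (a12 * a23 * a12⁻¹)⁻¹ * (a12 * a13 * a12⁻¹) := by rw [g1]; group
        _ = (a13 * a23)⁻¹ * a13 := by rw [h123, c13.symm.eq]; group
        _ = a23⁻¹ := by group
    have w32 : W * a32 * W⁻¹ = a31 := by
      have g1 : a21⁻¹ * a32 * a21 = a31 * a32 := by
        calc a21⁻¹ * a32 * a21 = a21⁻¹ * (a32 * a21) := by group
          _ = a21⁻¹ * (a31 * a21) * a32 := by rw [h321]; group
          _ = a21⁻¹ * (a21 * a31) * a32 := by rw [c31.eq]
          _ = _ := by group
      have g2 : a12 * a31 * a12⁻¹ = a32⁻¹ * a31 := by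
        calc a12 * a31 * a12⁻¹ = a32⁻¹ * (a32 * a12 * a31) * a12⁻¹ := by group
          _ = a32⁻¹ * (a31 * a12) * a12⁻¹ := by rw [h312]
          _ = _ := by group
      calc W * a32 * W⁻¹ = a12 * (a21⁻¹ * (a12 * a32 * a12⁻¹) * a21) * a12⁻¹ := by rw [hWdef]; group
        _ = a12 * (a21⁻¹ * a32 * a21) * a12⁻¹ := by rw [c32.symm.eq, mul_inv_cancel_right]
        _ = (a12 * a31 * a12⁻¹) * (a12 * a32 * a12⁻¹) := by rw [g1]; group
        _ = a32⁻¹ * (a31 * a32) := by rw [g2, c32.symm.eq]; group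
        _ = a31 := by rw [d31.eq]; group
    have h := congrArg (fun g => W * g * W⁻¹) h132
    have h' : W * a13 * W⁻¹ * (W * a32 * W⁻¹) = W * a12 * W⁻¹ * (W * a32 * W⁻¹) * (W * a13 * W⁻¹) := by
      have : W * (a13 * a32) * W⁻¹ = W * (a12 * a32 * a13) * W⁻¹ := h
      calc _ = W * (a13 * a32) * W⁻¹ := by group
        _ = _ := by rw [this]; group
    rw [w13, w32, w12] at h'
    calc a23 * a31 = a23 * a21 * (a21⁻¹ * a31 * a23⁻¹) * a23 := by group
      _ = a23 * a21 * (a23⁻¹ * a31) * a23 := by rw [h']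
      _ = (a21 * a23) * (a23⁻¹ * a31) * a23 := by rw [c23.eq]
      _ = _ := by group
  let r : Fin 3 → Fin 3 → G := fun i j => ![![1, a12, a13], ![a21, 1, a23], ![a31, a32, 1]] i j
  have hr3 : ∀ i j, r i j ^ 3 = 1 := by
    intro i j
    rw [pow_succ, pow_two]
    fin_cases i <;> fin_cases j <;>
      first | exact r12.cube | exact r13.cube | exact r21.cube | exact r23.cube |
        exact r31.cube | exact r32.cube | simp [r]
  have hcomm : ∀ i j k l : Fin 3, i ≠ j → k ≠ l → i ≠ l → j ≠ k → Commute (r i j) (r k l) := by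
    intro i j k l h1 h2 h3 h4
    fin_cases i <;> fin_cases j <;> fin_cases k <;> fin_cases l <;>
      first
        | exact absurd rfl h1 | exact absurd rfl h2 | exact absurd rfl h3 | exact absurd rfl h4
        | exact Commute.refl _
        | exact c13 | exact c13.symm | exact c32 | exact c32.symm | exact c23 | exact c23.symm
        | exact c31 | exact c31.symm | exact d13 | exact d13.symm | exact d31 | exact d31.symm
  have hchain : ∀ i j l : Fin 3, i ≠ j → j ≠ l → i ≠ l → r i j * r j l = r i l * r j l * r i j := by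
    intro i j l h1 h2 h3
    fin_cases i <;> fin_cases j <;> fin_cases l <;>
      first
        | exact absurd rfl h1 | exact absurd rfl h2 | exact absurd rfl h3
        | exact h123 | exact h132 | exact h213 | exact h231 | exact h312 | exact h321
  refine ⟨⟨fun i j a => r i j ^ a.val, fun i j _ a b => ?_, fun i j k l h1 h2 h3 h4 a b => ?_,
    fun i j l h1 h2 h3 a b => ?_⟩, ?_⟩
  · rw [← pow_add, ZMod.val_add, ← pow_eq_pow_mod _ (hr3 i j)]
  · exact ((hcomm i j k l h1 h2 h3 h4).pow_pow _ _).eq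
  · rw [ZMod.val_mul, ← pow_eq_pow_mod _ (hr3 i l)]
    exact chain_pow (hchain i j l h1 h2 h3) (hcomm i l i j h3 h1 h1 (fun e => h3 e.symm))
      (hcomm i l j l h3 h2 h3 (fun e => h2 e.symm)) _ _
  · show r 0 1 ^ (1 : ZMod 3).val ≠ 1
    rw [show (1 : ZMod 3).val = 1 from rfl, pow_one]
    exact r12.ne

/-- A simple group of order 5616 with an involution centraliser `GL(2, 3)` is `PSL(3, 3)`. -/
theorem nonempty_mulEquiv_PSL (hS : Setup t f) :
    Nonempty (G ≃* Matrix.ProjectiveSpecialLinearGroup (Fin 3) (ZMod 3)) := by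
  haveI : Fact (Nat.Prime 3) := ⟨Nat.prime_three⟩
  obtain ⟨S, hne⟩ := exists_rels hcard hS
  obtain ⟨Ψ, hΨ⟩ := CurtisTits.exists_hom (le_refl 3) S
  have hq : Fintype.card (ZMod 3) = 3 := ZMod.card 3
  have hcardSL : Nat.card (Matrix.SpecialLinearGroup (Fin 3) (ZMod 3)) = 5616 := by
    rw [GL.card_SL_prod 3, hq]; decide +kernel
  haveI hps := GL.PSL_isSimpleGroup_of_three_le (ι := Fin 3) (F := ZMod 3) (by simp)
  have hz : Subgroup.center (Matrix.SpecialLinearGroup (Fin 3) (ZMod 3)) = ⊥ := by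
    rw [Subgroup.eq_bot_iff_card, GL.card_center_SL, hq]; decide
  let π : Matrix.SpecialLinearGroup (Fin 3) (ZMod 3) →* Matrix.ProjectiveSpecialLinearGroup (Fin 3) (ZMod 3) :=
    QuotientGroup.mk' _
  have hπ : Function.Bijective π := ⟨by
    rw [← MonoidHom.ker_eq_bot_iff, QuotientGroup.ker_mk', hz], QuotientGroup.mk'_surjective _⟩
  let eπ := MulEquiv.ofBijective π hπ
  haveI : IsSimpleGroup (Matrix.SpecialLinearGroup (Fin 3) (ZMod 3)) := eπ.isSimpleGroup
  have hinj : Function.Injective Ψ := by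
    rw [← MonoidHom.ker_eq_bot_iff]
    refine (Ψ.normal_ker.eq_bot_or_eq_top).resolve_right fun h => hne ?_
    rw [← hΨ 0 1 (by decide) 1, MonoidHom.ker_eq_top_iff.1 h]
    rfl
  have hbij : Function.Bijective Ψ := hinj.bijective_of_nat_card_le (by rw [hcard, hcardSL])
  exact ⟨(MulEquiv.ofBijective Ψ hbij).symm.trans eπ⟩

end Cfsg.Agent.InvolCentGLTwoThree
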