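import Cfsg.Agent.Lib.InvolCentGLTwoThree.Model
import Cfsg.Agent.Lib.Char.Induction
import Mathlib.Analysis.SpecialFunctions.Pow.Real

/-!
# The five functions are generalized characters of `GL(2, 3)`
-/

set_option autoImplicit false
set_option linter.style.haveILetI false

namespace Cfsg.Agent.InvolCentGLTwoThree

open Cfsg Cfsg.Agent
open scoped ComplexConjugate

/-- `i √2`. -/
noncomputable def rt : ℂ := Complex.I * (Real.sqrt 2 : ℂ)

theorem sqrt_two_sq : (Real.sqrt 2 : ℂ) * (Real.sqrt 2 : ℂ) = 2 := by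
  rw [← Complex.ofReal_mul, Real.mul_self_sqrt (by norm_num)]
  norm_num

theorem rt_sq : rt * rt = ((-2 : ℤ) : ℂ) := by
  rw [rt, mul_mul_mul_comm, Complex.I_mul_I, sqrt_two_sq]
  norm_num

/-- The embedding of `ℤ√-2`. -/
noncomputable def emb : ℤ√(-2) →+* ℂ := Zsqrtd.lift ⟨rt, rt_sq⟩

theorem emb_apply (a : ℤ√(-2)) : emb a = (a.re : ℂ) + (a.im : ℂ) * rt := rfl

theorem conj_rt : conj rt = -rt := by
  rw [rt, map_mul, Complex.conj_I, Complex.conj_ofReal, neg_mul]

theorem conj_emb (a : ℤ√(-2)) : conj (emb a) = emb (star a) := by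
  rw [emb_apply, emb_apply, map_add, map_mul, conj_rt, map_intCast, map_intCast,
    Zsqrtd.re_star, Zsqrtd.im_star]
  push_cast
  ring

/-- The normaliser of the torus: a Sylow 2-subgroup. -/
def subS : Subgroup M where
  carrier := {x | x * w = w * x ∨ x * w = w * w * w * x}
  one_mem' := Or.inl (by decide +kernel)
  mul_mem' := by
    have h : ∀ a b : M, (a * w = w * a ∨ a * w = w * w * w * a) → (b * w = w * b ∨ b * w = w * w * w * b) →
        a * b * w = w * (a * b) ∨ a * b * w = w * w * w * (a * b) := by decide +kernel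
    exact fun {a b} ha hb => h a b ha hb
  inv_mem' := by
    have h : ∀ a : M, (a * w = w * a ∨ a * w = w * w * w * a) →
        a⁻¹ * w = w * a⁻¹ ∨ a⁻¹ * w = w * w * w * a⁻¹ := by decide +kernel
    exact fun {a} ha => h a ha

/-- The Borel subgroup. -/
def subB : Subgroup M where
  carrier := {x | x.c = 0}
  one_mem' := rfl
  mul_mem' := by
    have h : ∀ a b : M, a.c = 0 → b.c = 0 → (a * b).c = 0 := by decide +kernel
    exact fun {a b} ha hb => h a b ha hb
  inv_mem' := by
    have h : ∀ a : M, a.c = 0 → a⁻¹.c = 0 := by decide +kernel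
    exact fun {a} ha => h a ha

/-- The torus. -/
def subT : Subgroup M where
  carrier := {x | x * w = w * x}
  one_mem' := by show (1 : M) * w = w * 1; rw [one_mul, mul_one]
  mul_mem' := by
    intro a b (ha : a * w = w * a) (hb : b * w = w * b)
    show a * b * w = w * (a * b)
    rw [mul_assoc, hb, ← mul_assoc, ha, mul_assoc]
  inv_mem' := by
    intro a (ha : a * w = w * a)
    show a⁻¹ * w = w * a⁻¹
    exact ((Commute.symm (show Commute a w from ha)).inv_right).eq.symm

instance : DecidablePred (· ∈ subS) := fun x =>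
  inferInstanceAs (Decidable (x * w = w * x ∨ x * w = w * w * w * x))
instance : DecidablePred (· ∈ subB) := fun x => inferInstanceAs (Decidable (x.c = 0))
instance : DecidablePred (· ∈ subT) := fun x => inferInstanceAs (Decidable (x * w = w * x))

theorem cards : Nat.card subS = 16 ∧ Nat.card subB = 12 ∧ Nat.card subT = 8 := by
  refine ⟨?_, ?_, ?_⟩ <;> rw [Nat.card_eq_fintype_card] <;> decide +kernel

/-- Evaluation of an induced function. -/
theorem indFun_eval (K : Subgroup M) (θ : K → ℂ) (g : M → ℂ)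
    (h1 : ∀ (y : M) (hy : y ∈ K), g y = θ ⟨y, hy⟩) (h2 : ∀ y, y ∉ K → g y = 0) (h : M) :
    indFun K θ h = (Nat.card K : ℂ)⁻¹ * ∑ x : M, g (x⁻¹ * h * x) := by
  show (Nat.card K : ℂ)⁻¹ * _ = _
  congr 1
  refine Finset.sum_congr rfl fun x _ => ?_
  by_cases hx : x⁻¹ * h * x ∈ K
  · rw [Char.extendByZero_of_mem _ _ hx, h1 _ hx]
  · rw [Char.extendByZero_of_notMem _ _ hx, h2 _ hx]

theorem isGen_of_hom {K : Type} [Group K] [Finite K] (lam : K →* ℂ) :
    IsGeneralizedCharacter K (lam : K → ℂ) :=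
  Char.IsCharacter.isGeneralized (Char.IsIrrCharacter.isCharacter (Char.isIrrCharacter_of_monoidHom lam))

/-- Cosets of the Sylow subgroup fixed. -/
noncomputable def p3 : M → ℂ := indFun subS (1 : subS →* ℂ)

theorem p3_eq (h : M) : p3 h = (cntS h : ℂ) / 16 := by
  rw [p3, indFun_eval subS _ (fun y => if y ∈ subS then 1 else 0) (fun y hy => by rw [if_pos hy]; rfl)
    (fun y hy => if_neg hy), cards.1, Finset.sum_boole, cntS, Int.cast_natCast, Nat.cast_ofNat, mul_comm,
    div_eq_mul_inv]
  rfl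

/-- Fixed points on the projective line. -/
noncomputable def p4 : M → ℂ := indFun subB (1 : subB →* ℂ)

theorem p4_eq (h : M) : p4 h = (cntB h : ℂ) / 12 := by
  rw [p4, indFun_eval subB _ (fun y => if y ∈ subB then 1 else 0) (fun y hy => by rw [if_pos hy]; rfl)
    (fun y hy => if_neg hy), cards.2.1, Finset.sum_boole, cntB, Int.cast_natCast, Nat.cast_ofNat, mul_comm,
    div_eq_mul_inv]
  rfl

/-- The sign of the upper left entry. -/
noncomputable def lamB : subB →* ℂ where
  toFun x := ((if (x : M).a = 1 then 1 else -1 : ℤ) : ℂ)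
  map_one' := by norm_num [show (1 : M).a = 1 from rfl]
  map_mul' := by
    have h : ∀ a b : M, a.c = 0 → b.c = 0 → (if (a * b).a = 1 then (1 : ℤ) else -1) =
        (if a.a = 1 then 1 else -1) * (if b.a = 1 then 1 else -1) := by decide +kernel
    intro x y
    rw [← Int.cast_mul, ← h _ _ x.2 y.2]
    rfl

/-- The monomial character of degree four. -/
noncomputable def m4 : M → ℂ := indFun subB lamB

theorem m4_eq (h : M) : m4 h = (cntL h : ℂ) / 12 := by
  rw [m4, indFun_eval subB _ (fun y => if y.c = 0 then ((if y.a = 1 then 1 else -1 : ℤ) : ℂ) else 0)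
    (fun y hy => by rw [if_pos (show y.c = 0 from hy)]; rfl) (fun y hy => if_neg hy), cards.2.1, cntL,
    Int.cast_sum, Nat.cast_ofNat, mul_comm, div_eq_mul_inv]
  congr 1
  exact Finset.sum_congr rfl fun x _ => by split_ifs <;> simp

/-- A primitive eighth root of unity. -/
noncomputable def zeta : ℂ := (Real.sqrt 2 : ℂ) * (1 + Complex.I) / 2

theorem zeta_sq : zeta ^ 2 = Complex.I := by
  rw [zeta, div_pow, mul_pow, sq (Real.sqrt 2 : ℂ), sqrt_two_sq]
  linear_combination (1 / 2 : ℂ) * Complex.I_sq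

theorem zeta_four : zeta ^ 4 = -1 := by
  rw [show zeta ^ 4 = (zeta ^ 2) ^ 2 by ring, zeta_sq, Complex.I_sq]

theorem zeta_eight : zeta ^ 8 = 1 := by
  rw [show zeta ^ 8 = (zeta ^ 4) ^ 2 by ring, zeta_four]
  norm_num

theorem zeta_add : zeta + zeta ^ 3 = rt := by
  rw [show zeta ^ 3 = zeta ^ 2 * zeta by ring, zeta_sq, zeta, rt]
  linear_combination ((Real.sqrt 2 : ℂ) / 2) * Complex.I_sq

theorem zeta_pow_mod (n : ℕ) : zeta ^ (n % 8) = zeta ^ n := by
  conv_rhs => rw [← Nat.mod_add_div n 8, pow_add, pow_mul, zeta_eight, one_pow, mul_one]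

/-- The faithful linear character of the torus. -/
noncomputable def psiT : subT →* ℂ where
  toFun x := zeta ^ idx (x : M)
  map_one' := by rw [OneMemClass.coe_one, idx_one, pow_zero]
  map_mul' x y := by rw [Subgroup.coe_mul, idx_mul _ _ x.2 y.2, zeta_pow_mod, pow_add]

/-- The monomial character of degree six. -/
noncomputable def m6 : M → ℂ := indFun subT psiT

theorem idx_lt : ∀ y : M, y * w = w * y → idx y < 8 := by decide +kernel

theorem m6_eq (h : M) : m6 h = (((cntT h 0 - cntT h 4 : ℤ) : ℂ) +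
    ((cntT h 1 - cntT h 5 : ℤ) : ℂ) * rt) / 8 := by
  rw [m6, indFun_eval subT _ (fun y => if y * w = w * y then zeta ^ idx y else 0)
    (fun y hy => by rw [if_pos (show y * w = w * y from hy)]; rfl) (fun y hy => if_neg hy), cards.2.2]
  have h1 : ∀ y : M, (if y * w = w * y then zeta ^ idx y else 0) =
      ∑ j ∈ Finset.range 8, if y * w = w * y ∧ idx y = j then zeta ^ j else 0 := by
    intro y
    by_cases hy : y * w = w * y
    · rw [if_pos hy]
      simp only [hy, true_and, Finset.sum_ite_eq, Finset.mem_range, idx_lt y hy, if_true]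
    · simp [hy]
  rw [Finset.sum_congr rfl fun x _ => h1 _, Finset.sum_comm,
    Finset.sum_congr rfl fun j _ => show (∑ x : M, if (x⁻¹ * h * x) * w = w * (x⁻¹ * h * x) ∧
      idx (x⁻¹ * h * x) = j then zeta ^ j else 0) = (cntT h j : ℂ) * zeta ^ j by
        rw [← Finset.sum_filter, Finset.sum_const, nsmul_eq_mul, cntT, Int.cast_natCast]]
  obtain ⟨-, -, e3, e2⟩ := fB_eq h
  have c3 : (cntT h 3 : ℂ) = cntT h 1 - cntT h 5 + cntT h 7 := by
    rw [show cntT h 3 = cntT h 1 - cntT h 5 + cntT h 7 by omega]; push_cast; ring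
  simp only [Finset.sum_range_succ, Finset.sum_range_zero, zero_add]
  rw [c3, e2, show zeta ^ 4 = -1 from zeta_four, show zeta ^ 5 = -zeta by
    rw [pow_succ, zeta_four, neg_one_mul], show zeta ^ 6 = -zeta ^ 2 by
    rw [show zeta ^ 6 = zeta ^ 4 * zeta ^ 2 by ring, zeta_four, neg_one_mul], show zeta ^ 7 = -zeta ^ 3 by
    rw [show zeta ^ 7 = zeta ^ 4 * zeta ^ 3 by ring, zeta_four, neg_one_mul], ← zeta_add]
  push_cast
  ring

/-- The sign of the determinant. -/
noncomputable def sgnHom : M →* ℂ where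
  toFun x := (sgn x : ℂ)
  map_one' := by rw [show sgn 1 = 1 by decide]; norm_num
  map_mul' x y := by rw [← Int.cast_mul, ← sgn_mul]

theorem sgnHom_apply (h : M) : sgnHom h = (sgn h : ℂ) := rfl

theorem isGen_ind (K : Subgroup M) (lam : K →* ℂ) : IsGeneralizedCharacter M (indFun K lam) :=
  Char.isGeneralizedCharacter_indFun K (isGen_of_hom lam)

theorem isGen_fA : IsGeneralizedCharacter M (fun h => emb (fA h)) := by
  have e : (fun h => emb (fA h)) = p3 - p4 + ⇑(1 : M →* ℂ) := by
    funext h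
    have h' := congrArg emb (fA_eq h)
    simp only [map_mul, map_intCast, map_ofNat] at h'
    rw [Pi.add_apply, Pi.sub_apply, MonoidHom.one_apply, p3_eq, p4_eq]
    push_cast at h'
    linear_combination h' / 48
  rw [e]
  exact Char.IsGeneralizedCharacter.add (Char.IsGeneralizedCharacter.sub (isGen_ind _ _) (isGen_ind _ _))
    (isGen_of_hom _)

theorem isGen_fD : IsGeneralizedCharacter M (fun h => emb (fD h)) := by
  have e : (fun h => emb (fD h)) = ⇑sgnHom * (fun h => emb (fA h)) := by
    funext h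
    rw [Pi.mul_apply, fD_eq, map_mul, map_intCast, sgnHom_apply]
  rw [e]
  exact Char.IsGeneralizedCharacter.mul (isGen_of_hom _) isGen_fA

theorem isGen_fC : IsGeneralizedCharacter M (fun h => emb (fC h)) := by
  have e : (fun h => emb (fC h)) = ⇑(1 : M →* ℂ) + ⇑sgnHom * (p4 - ⇑(1 : M →* ℂ)) - m4 := by
    funext h
    have h' := congrArg emb (fC_eq h)
    simp only [map_mul, map_intCast, map_ofNat] at h'
    rw [Pi.sub_apply, Pi.add_apply, Pi.mul_apply, Pi.sub_apply, MonoidHom.one_apply, m4_eq, p4_eq,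
      sgnHom_apply]
    push_cast at h'
    linear_combination h' / 48
  rw [e]
  exact Char.IsGeneralizedCharacter.sub (Char.IsGeneralizedCharacter.add (isGen_of_hom _)
    (Char.IsGeneralizedCharacter.mul (isGen_of_hom _)
      (Char.IsGeneralizedCharacter.sub (isGen_ind _ _) (isGen_of_hom _)))) (isGen_ind _ _)

theorem isGen_fB : IsGeneralizedCharacter M (fun h => emb (fB h)) := by
  have e : (fun h => emb (fB h)) = p3 - ⇑(1 : M →* ℂ) - m6 + m4 := by
    funext h
    obtain ⟨h1, h2, -, -⟩ := fB_eq h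
    rw [Pi.add_apply, Pi.sub_apply, Pi.sub_apply, MonoidHom.one_apply, p3_eq, m4_eq, m6_eq, emb_apply]
    have q1 := congrArg (fun n : ℤ => (n : ℂ)) h1
    have q2 := congrArg (fun n : ℤ => (n : ℂ)) h2
    push_cast at q1 q2 ⊢
    linear_combination q1 / 48 + (rt / 48) * q2
  rw [e]
  exact Char.IsGeneralizedCharacter.add (Char.IsGeneralizedCharacter.sub (Char.IsGeneralizedCharacter.sub
    (isGen_ind _ _) (isGen_of_hom _)) (isGen_ind _ _)) (isGen_ind _ _)

theorem isGen_fB' : IsGeneralizedCharacter M (fun h => emb (fB' h)) := by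
  have e : (fun h => emb (fB' h)) = fun h => conj (emb (fB h)) := by
    funext h
    obtain ⟨h1, h2⟩ := fB'_eq h
    rw [conj_emb, emb_apply, emb_apply, Zsqrtd.re_star, Zsqrtd.im_star, h1, h2]
  rw [e]
  exact Char.IsGeneralizedCharacter.conj isGen_fB

end Cfsg.Agent.InvolCentGLTwoThree
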