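import Mathlib.Algebra.Order.BigOperators.Group.Finset
import Mathlib.Data.Fintype.BigOperators
import Mathlib.Algebra.Order.Field.Rat
import Mathlib.Tactic.FieldSimp
import Mathlib.Tactic.Linarith
import Mathlib.Tactic.NormNum
import Mathlib.Tactic.Ring
import Mathlib.Algebra.BigOperators.Ring.Finset
import Mathlib.Tactic.LinearCombination

/-!
# The decomposition of the five induced class functions
-/

set_option autoImplicit false

namespace Cfsg.Agent.InvolCentGLTwoThree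

variable {ι : Type*} [Fintype ι] [DecidableEq ι]

set_option linter.unusedSectionVars false

/-- A vector of norm at most three takes the values `0`, `1`, `-1` on a support of that size. -/
theorem support_of_norm {f : ι → ℤ} {n : ℕ} (hn : n ≤ 3) (h : ∑ i, f i * f i = (n : ℤ)) :
    (∀ i, f i = 0 ∨ f i = 1 ∨ f i = -1) ∧ (Finset.univ.filter fun i => f i ≠ 0).card = n := by
  have hle : ∀ i, f i = 0 ∨ f i = 1 ∨ f i = -1 := fun i => by
    have h1 : f i * f i ≤ ∑ j, f j * f j :=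
      Finset.single_le_sum (f := fun j => f j * f j) (fun j _ => mul_self_nonneg _) (Finset.mem_univ i)
    have h2 : -1 ≤ f i ∧ f i ≤ 1 := by constructor <;> nlinarith
    omega
  refine ⟨hle, ?_⟩
  have hs : ∑ i, f i * f i = ∑ i, if f i ≠ 0 then (1 : ℤ) else 0 := Finset.sum_congr rfl fun i _ => by
    rcases hle i with h | h | h <;> simp [h]
  rw [hs, Finset.sum_boole] at h
  exact_mod_cast h

theorem sum_eq_of_support {R : Type*} [AddCommMonoid R] (S : Finset ι) (F : ι → R)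
    (h : ∀ i, i ∉ S → F i = 0) : ∑ i, F i = ∑ i ∈ S, F i :=
  (Finset.sum_subset (Finset.subset_univ S) fun i _ hi => h i hi).symm

theorem exists_third {f : ι → ℤ} (h : (Finset.univ.filter fun i => f i ≠ 0).card = 3) {a b : ι}
    (ha : f a ≠ 0) (hb : f b ≠ 0) (hab : a ≠ b) :
    ∃ c, f c ≠ 0 ∧ c ≠ a ∧ c ≠ b ∧ ∀ i, i ≠ a → i ≠ b → i ≠ c → f i = 0 := by
  set S := Finset.univ.filter fun i => f i ≠ 0 with hS
  have hmem : ∀ i, i ∈ S ↔ f i ≠ 0 := fun i => by simp [hS]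
  have h1 : ((S.erase a).erase b).card = 1 := by
    rw [Finset.card_erase_of_mem (Finset.mem_erase.2 ⟨hab.symm, (hmem b).2 hb⟩),
      Finset.card_erase_of_mem ((hmem a).2 ha), h]
  obtain ⟨c, hc⟩ := Finset.card_eq_one.1 h1
  have hcm : c ∈ (S.erase a).erase b := by rw [hc]; exact Finset.mem_singleton_self c
  obtain ⟨hcb, hca, hcS⟩ : c ≠ b ∧ c ≠ a ∧ c ∈ S := by simpa using hcm
  refine ⟨c, (hmem c).1 hcS, hca, hcb, fun i hia hib hic => ?_⟩
  by_contra hi
  have : i ∈ (S.erase a).erase b := by simp [hia, hib, (hmem i).2 hi]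
  rw [hc, Finset.mem_singleton] at this
  exact hic this

variable (deg A B B' C D : ι → ℤ) (o : ι)

/-- The hypotheses on the multiplicities. -/
structure Data : Prop where
  pos : ∀ i, 0 < deg i
  dego : deg o = 1
  one : ∀ i, deg i = 1 → i = o
  AA : ∑ i, A i * A i = 3
  BB : ∑ i, B i * B i = 2
  BB' : ∑ i, B' i * B' i = 2
  CC : ∑ i, C i * C i = 3
  DD : ∑ i, D i * D i = 3
  AB : ∑ i, A i * B i = 1
  AB' : ∑ i, A i * B' i = 1
  AC : ∑ i, A i * C i = 1
  AD : ∑ i, A i * D i = 1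
  bb : ∑ i, B i * B' i = 1
  BC : ∑ i, B i * C i = 0
  B'C : ∑ i, B' i * C i = 0
  DB : ∑ i, D i * B i = 1
  DB' : ∑ i, D i * B' i = 1
  CD : ∑ i, C i * D i = -1
  Ao : A o = 1
  Bo : B o = 0
  B'o : B' o = 0
  Co : C o = 1
  Do : D o = 0
  A1 : ∑ i, A i * deg i = 0
  B1 : ∑ i, B i * deg i = 0
  B'1 : ∑ i, B' i * deg i = 0
  D1 : ∑ i, D i * deg i = 0

variable {deg A B B' C D o}

theorem Data.exists_pair (h : Data deg A B B' C D o) {f : ι → ℤ} (hf : ∑ i, f i * f i = 2)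
    (h1 : ∑ i, f i * deg i = 0) : ∃ a b, a ≠ b ∧ f b = -f a ∧ (f a = 1 ∨ f a = -1) ∧ deg a = deg b ∧
      ∀ i, i ≠ a → i ≠ b → f i = 0 := by
  obtain ⟨hv, hc⟩ := support_of_norm (f := f) (n := 2) (by norm_num) (by simpa using hf)
  obtain ⟨a, b, hab, he⟩ := Finset.card_eq_two.1 hc
  have hne : f a ≠ 0 ∧ f b ≠ 0 := by
    constructor
    · have : a ∈ ({a, b} : Finset ι) := by simp
      rw [← he] at this
      exact (Finset.mem_filter.1 this).2
    · have : b ∈ ({a, b} : Finset ι) := by simp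
      rw [← he] at this
      exact (Finset.mem_filter.1 this).2
  have hoff : ∀ i, i ≠ a → i ≠ b → f i = 0 := fun i hia hib => by
    by_contra hi
    have : i ∈ ({a, b} : Finset ι) := by rw [← he]; simp [hi]
    simp [hia, hib] at this
  rw [sum_eq_of_support {a, b} _ (fun i hi => by
    simp only [Finset.mem_insert, Finset.mem_singleton, not_or] at hi
    rw [hoff i hi.1 hi.2, zero_mul]), Finset.sum_pair hab] at h1
  have := h.pos a
  have := h.pos b
  rcases (hv a).resolve_left hne.1 with ha | ha <;> rcases (hv b).resolve_left hne.2 with hb | hb <;>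
    rw [ha, hb] at h1 <;> first | (exfalso; omega) | exact ⟨a, b, hab, by omega, by omega, by omega, hoff⟩

theorem Data.pair_dot {f : ι → ℤ} {a b : ι} (hab : a ≠ b) (hoff : ∀ i, i ≠ a → i ≠ b → f i = 0)
    (g : ι → ℤ) : ∑ i, f i * g i = f a * g a + f b * g b := by
  rw [sum_eq_of_support {a, b} _ (fun i hi => by
    simp only [Finset.mem_insert, Finset.mem_singleton, not_or] at hi
    rw [hoff i hi.1 hi.2, zero_mul]), Finset.sum_pair hab]

theorem triple_dot {R : Type*} [CommRing R] {F : ι → R} {a b c : ι} (hab : a ≠ b) (hca : c ≠ a) (hcb : c ≠ b)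
    (hoff : ∀ i, i ≠ a → i ≠ b → i ≠ c → F i = 0) : ∑ i, F i = F a + F b + F c := by
  rw [sum_eq_of_support {a, b, c} _ (fun i hi => by
    simp only [Finset.mem_insert, Finset.mem_singleton, not_or] at hi
    exact hoff i hi.1 hi.2.1 hi.2.2), Finset.sum_insert (by simp [hab, hca.symm]), Finset.sum_pair hcb.symm,
    add_assoc]

/-- The shared constituent of `B` and `B'`. -/
theorem Data.exists_shared (h : Data deg A B B' C D o) : ∃ X Y Y', X ≠ Y ∧ X ≠ Y' ∧ Y ≠ Y' ∧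
    (B X = 1 ∨ B X = -1) ∧ B Y = -B X ∧ B' X = B X ∧ B' Y' = -B X ∧ deg Y = deg X ∧ deg Y' = deg X ∧
    (∀ i, i ≠ X → i ≠ Y → B i = 0) ∧ (∀ i, i ≠ X → i ≠ Y' → B' i = 0) := by
  obtain ⟨a, b, hab, hfb, hfa, hdeg, hoff⟩ := h.exists_pair h.BB h.B1
  obtain ⟨c, d, hcd, hgd, hgc, hdeg', hoff'⟩ := h.exists_pair h.BB' h.B'1
  have e := h.bb
  rw [Data.pair_dot hab hoff, hfb] at e
  have hca : c = a ∨ c = b ∨ (c ≠ a ∧ c ≠ b) := by tauto
  have hda : d = a ∨ d = b ∨ (d ≠ a ∧ d ≠ b) := by tauto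
  have hB'a : a ≠ c → a ≠ d → B' a = 0 := hoff' a
  have hB'b : b ≠ c → b ≠ d → B' b = 0 := hoff' b
  rcases hca with rfl | rfl | ⟨hc1, hc2⟩
  · -- the first entries agree
    have hdb : d ≠ b := by
      rintro rfl
      rw [hgd] at e
      rcases hfa with q | q <;> rcases hgc with r | r <;> rw [q, r] at e <;> omega
    rw [hB'b hab.symm hdb.symm, mul_zero, add_zero] at e
    have hs : B' c = B c := by
      rcases hfa with q | q <;> rcases hgc with r | r <;> rw [q, r] at e <;> omega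
    exact ⟨c, b, d, hab, hcd, hdb.symm, hfa, hfb, hs, by rw [hgd, hs], hdeg.symm, hdeg'.symm, hoff, hoff'⟩
  · -- the first entry of the second is the second of the first
    have hda' : d ≠ a := by
      rintro rfl
      rw [hgd] at e
      rcases hfa with q | q <;> rcases hgc with r | r <;> rw [q, r] at e <;> omega
    rw [hB'a hab hda'.symm, mul_zero, zero_add] at e
    have hs : B' c = B c := by
      rcases hfa with q | q <;> rcases hgc with r | r <;> rw [hfb, q, r] <;> rw [q, r] at e <;> omega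
    refine ⟨c, a, d, hab.symm, hcd, hda'.symm, by omega, by omega, hs, by rw [hgd, hs], hdeg, hdeg'.symm,
      fun i h1 h2 => hoff i h2 h1, hoff'⟩
  · rcases hda with rfl | rfl | ⟨hd1, hd2⟩
    · rw [hB'b hc2.symm hab.symm, mul_zero, add_zero] at e
      have hs : B' d = B d := by
        rcases hfa with q | q <;> rcases hgc with r | r <;> rw [hgd, q, r] <;> rw [hgd, q, r] at e <;> omega
      refine ⟨d, b, c, hab, hcd.symm, hc2.symm, hfa, hfb, hs, by omega, hdeg.symm, hdeg', hoff,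
        fun i h1 h2 => hoff' i h2 h1⟩
    · rw [hB'a hc1.symm hab, mul_zero, zero_add] at e
      have hs : B' d = B d := by
        rcases hfa with q | q <;> rcases hgc with r | r <;> rw [hgd, hfb, q, r] <;> rw [hgd, q, r] at e <;> omega
      refine ⟨d, a, c, hab.symm, hcd.symm, hc1.symm, by omega, by omega, hs, by omega, hdeg, hdeg',
        fun i h1 h2 => hoff i h2 h1, fun i h1 h2 => hoff' i h2 h1⟩
    · rw [hB'a hc1.symm hd1.symm, hB'b hc2.symm hd2.symm] at e
      omega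

/-- The arithmetic consequence. -/
theorem Data.equations (h : Data deg A B B' C D o) {T : ι → ℤ}
    (hT : ∀ i, T i = 4 * C i + 2 * (B i + B' i) - 3 * A i + D i) :
    ∃ x d e : ℤ, x ≠ 0 ∧ x + 1 ≠ 0 ∧ d ≠ 0 ∧ e ≠ 0 ∧ e ≠ 1 ∧ e ≠ -1 ∧ x + d + e = 0 ∧
      (∑ i, (A i : ℚ) * (T i : ℚ) ^ 2 / (deg i : ℚ)) = 1 + 4 / (x : ℚ) - 9 / ((x : ℚ) + 1) ∧
      (∑ i, (D i : ℚ) * (T i : ℚ) ^ 2 / (deg i : ℚ)) = 4 / (x : ℚ) + 9 / (d : ℚ) + 1 / (e : ℚ) := by
  obtain ⟨X, Y, Y', hXY, hXY', hYY', hs, hBY, hB'X, hB'Y', hdY, hdY', hoffB, hoffB'⟩ := h.exists_shared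
  have hXo : X ≠ o := by rintro rfl; rw [h.Bo] at hs; omega
  have hYo : Y ≠ o := by rintro rfl; rw [h.Bo] at hBY; omega
  have hY'o : Y' ≠ o := by rintro rfl; rw [h.B'o] at hB'Y'; omega
  obtain ⟨hvA, hcA⟩ := support_of_norm (f := A) (n := 3) le_rfl (by simpa using h.AA)
  obtain ⟨hvC, hcC⟩ := support_of_norm (f := C) (n := 3) le_rfl (by simpa using h.CC)
  obtain ⟨hvD, hcD⟩ := support_of_norm (f := D) (n := 3) le_rfl (by simpa using h.DD)
  have key : ∀ f : ι → ℤ, ∀ v : ℤ, ∑ i, f i * B i = v → ∑ i, f i * B' i = v →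
      B X * (f X - f Y) = v ∧ B X * (f X - f Y') = v := by
    intro f v h1 h2
    simp only [mul_comm (f _)] at h1 h2
    rw [Data.pair_dot hXY hoffB, hBY] at h1
    rw [Data.pair_dot hXY' hoffB', hB'Y', hB'X] at h2
    exact ⟨by linarith, by linarith⟩
  -- the first function
  obtain ⟨eA, eA'⟩ := key A 1 h.AB h.AB'
  have hAX : A X = B X ∧ A Y = 0 ∧ A Y' = 0 := by
    rcases eq_or_ne (A X) 0 with hz | hz
    · exfalso
      have hY1 : A Y = -B X := by rcases hs with q | q <;> rw [q] at eA ⊢ <;> omega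
      have hY2 : A Y' = -B X := by rcases hs with q | q <;> rw [q] at eA' ⊢ <;> omega
      obtain ⟨c, hc, -, -, hc4⟩ := exists_third hcA (a := Y) (b := Y') (by omega) (by omega) hYY'
      have : c = o := by
        by_contra hne
        have := hc4 o hYo.symm hY'o.symm (Ne.symm hne)
        rw [h.Ao] at this
        omega
      subst this
      have e := h.A1
      rw [triple_dot hYY' hYo.symm hY'o.symm (fun i h1 h2 h3 => by rw [hc4 i h1 h2 h3, zero_mul]), hY1, hY2,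
        h.Ao, h.dego, hdY, hdY'] at e
      rcases hs with q | q <;> rw [q] at e <;> omega
    · have v1 := hvA X
      have v2 := hvA Y
      have v3 := hvA Y'
      rcases hs with q | q <;> rw [q] at eA eA' ⊢ <;> omega
  obtain ⟨hAX, hAY, hAY'⟩ := hAX
  have hBne : B X ≠ 0 := by omega
  obtain ⟨Z, hAZ, hZo, hZX, hoffA⟩ := exists_third hcA (a := o) (b := X) (by rw [h.Ao]; omega)
    (by rw [hAX]; exact hBne) hXo.symm
  have hZY : Z ≠ Y := by rintro rfl; exact hAZ hAY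
  have hZY' : Z ≠ Y' := by rintro rfl; exact hAZ hAY'
  -- the second function
  obtain ⟨eC, eC'⟩ := key C 0 (by rw [← h.BC]; exact Finset.sum_congr rfl fun i _ => mul_comm _ _)
    (by rw [← h.B'C]; exact Finset.sum_congr rfl fun i _ => mul_comm _ _)
  have hCXY : C Y = C X ∧ C Y' = C X := by
    rcases hs with q | q <;> rw [q] at eC eC' <;> omega
  have hCX : C X = 0 := by
    by_contra hz
    obtain ⟨c, -, -, -, hc4⟩ := exists_third hcC (a := o) (b := X) (by rw [h.Co]; omega) hz hXo.symm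
    rcases eq_or_ne Y c with rfl | hne
    · have := hc4 Y' hY'o hXY'.symm hYY'.symm
      omega
    · have := hc4 Y hYo hXY.symm hne
      omega
  have hCZ : C Z = 0 := by
    have e := h.AC
    rw [triple_dot hXo.symm hZo hZX (fun i h1 h2 h3 => by rw [hoffA i h1 h2 h3, zero_mul]), h.Ao, h.Co, hCX,
      mul_zero, add_zero] at e
    rcases mul_eq_zero.1 (show A Z * C Z = 0 by omega) with q | q
    · exact absurd q hAZ
    · exact q
  -- the third function
  have hAD : A X * D X + A Z * D Z = 1 := by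
    have e := h.AD
    rw [triple_dot hXo.symm hZo hZX (fun i h1 h2 h3 => by rw [hoffA i h1 h2 h3, zero_mul]), h.Ao, h.Do] at e
    omega
  have hA1 : 1 + B X * deg X + A Z * deg Z = 0 := by
    have e := h.A1
    rw [triple_dot hXo.symm hZo hZX (fun i h1 h2 h3 => by rw [hoffA i h1 h2 h3, zero_mul]), h.Ao, h.dego,
      hAX] at e
    omega
  obtain ⟨eD, eD'⟩ := key D 1 h.DB h.DB'
  have hDX : D X = B X ∧ D Y = 0 ∧ D Y' = 0 := by
    rcases eq_or_ne (D X) 0 with hz | hz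
    · exfalso
      have hY1 : D Y = -B X := by rcases hs with q | q <;> rw [q] at eD ⊢ <;> omega
      have hY2 : D Y' = -B X := by rcases hs with q | q <;> rw [q] at eD' ⊢ <;> omega
      obtain ⟨c, hc, -, -, hc4⟩ := exists_third hcD (a := Y) (b := Y') (by omega) (by omega) hYY'
      rw [hz, mul_zero, zero_add] at hAD
      have : c = Z := by
        by_contra hne
        have := hc4 Z hZY hZY' (Ne.symm hne)
        rw [this] at hAD
        omega
      subst this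
      have e := h.D1
      rw [triple_dot hYY' hZY hZY' (fun i h1 h2 h3 => by rw [hc4 i h1 h2 h3, zero_mul]), hY1, hY2, hdY,
        hdY'] at e
      have hDA : D c = A c := by
        rcases hvA c with q | q | q <;> rcases hvD c with r | r | r <;> rw [q, r] at hAD ⊢ <;> omega
      rw [hDA] at e
      rcases hs with q | q <;> rw [q] at e hA1 <;> omega
    · have v1 := hvD X
      have v2 := hvD Y
      have v3 := hvD Y'
      rcases hs with q | q <;> rw [q] at eD eD' ⊢ <;> omega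
  obtain ⟨hDX, hDY, hDY'⟩ := hDX
  have hDZ : D Z = 0 := by
    rw [hAX, hDX] at hAD
    have hsq : B X * B X = 1 := by rcases hs with q | q <;> rw [q] <;> norm_num
    rcases mul_eq_zero.1 (show A Z * D Z = 0 by omega) with q | q
    · exact absurd q hAZ
    · exact q
  obtain ⟨P, Q, hDP, hDQ, hPX, hQX, hPQ, hoffD⟩ : ∃ P Q, D P ≠ 0 ∧ D Q ≠ 0 ∧ P ≠ X ∧ Q ≠ X ∧ P ≠ Q ∧
      ∀ i, i ≠ X → i ≠ P → i ≠ Q → D i = 0 := by
    have hne : ∃ P, P ≠ X ∧ D P ≠ 0 := by
      obtain ⟨P, hP, hPX⟩ := Finset.exists_mem_ne (s := Finset.univ.filter fun i => D i ≠ 0) (by omega) X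
      exact ⟨P, hPX, (Finset.mem_filter.1 hP).2⟩
    obtain ⟨P, hPX, hP⟩ := hne
    obtain ⟨Q, hQ, hQX, hQP, hoff⟩ := exists_third hcD (a := X) (b := P) (by rw [hDX]; exact hBne) hP hPX.symm
    exact ⟨P, Q, hP, hQ, hPX, hQX, hQP.symm, hoff⟩
  have hCD : C P * D P + C Q * D Q = -1 := by
    have e := h.CD
    rw [Finset.sum_congr rfl fun i _ => mul_comm (C i) (D i),
      triple_dot hPX.symm hQX hPQ.symm (fun i h1 h2 h3 => by rw [hoffD i h1 h2 h3, zero_mul]), hCX, mul_zero,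
      zero_add, mul_comm (D P), mul_comm (D Q)] at e
    exact e
  obtain ⟨P, Q, hDP, hDQ, hPX, hQX, hPQ, hoffD, hCP, hCQ⟩ : ∃ P Q, D P ≠ 0 ∧ D Q ≠ 0 ∧ P ≠ X ∧ Q ≠ X ∧
      P ≠ Q ∧ (∀ i, i ≠ X → i ≠ P → i ≠ Q → D i = 0) ∧ C P = -D P ∧ C Q = 0 := by
    rcases hvC P with cp | cp | cp <;> rcases hvC Q with cq | cq | cq <;>
      rcases (hvD P).resolve_left hDP with dp | dp <;> rcases (hvD Q).resolve_left hDQ with dq | dq <;>
      rw [cp, cq, dp, dq] at hCD <;>
      first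
        | (exfalso; omega)
        | exact ⟨P, Q, hDP, hDQ, hPX, hQX, hPQ, hoffD, by omega, cq⟩
        | exact ⟨Q, P, hDQ, hDP, hQX, hPX, hPQ.symm, fun i h1 h2 h3 => hoffD i h1 h3 h2, by omega, cp⟩
  have hPn : P ≠ o ∧ P ≠ Y ∧ P ≠ Y' ∧ P ≠ Z := ⟨by rintro rfl; exact hDP h.Do, by rintro rfl; exact hDP hDY,
    by rintro rfl; exact hDP hDY', by rintro rfl; exact hDP hDZ⟩
  have hQn : Q ≠ o ∧ Q ≠ Y ∧ Q ≠ Y' ∧ Q ≠ Z := ⟨by rintro rfl; exact hDQ h.Do, by rintro rfl; exact hDQ hDY,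
    by rintro rfl; exact hDQ hDY', by rintro rfl; exact hDQ hDZ⟩
  have To : T o = 1 := by rw [hT, h.Co, h.Bo, h.B'o, h.Ao, h.Do]; norm_num
  have TX : T X = 2 * B X := by rw [hT, hCX, hB'X, hAX, hDX]; ring
  have TZ : T Z = -3 * A Z := by rw [hT, hCZ, hoffB Z hZX hZY, hoffB' Z hZX hZY', hDZ]; ring
  have TP : T P = -3 * D P := by
    rw [hT, hCP, hoffB P hPX hPn.2.1, hoffB' P hPX hPn.2.2.1, hoffA P hPn.1 hPX hPn.2.2.2]; ring
  have TQ : T Q = D Q := by
    rw [hT, hCQ, hoffB Q hQX hQn.2.1, hoffB' Q hQX hQn.2.2.1, hoffA Q hQn.1 hQX hQn.2.2.2]; ring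
  have hD1 : B X * deg X + D P * deg P + D Q * deg Q = 0 := by
    have e := h.D1
    rw [triple_dot hPX.symm hQX hPQ.symm (fun i h1 h2 h3 => by rw [hoffD i h1 h2 h3, zero_mul]), hDX] at e
    exact e
  have hvQ := (hvD Q).resolve_left hDQ
  have hvP := (hvD P).resolve_left hDP
  have hvZ := (hvA Z).resolve_left hAZ
  have hpX := h.pos X
  have hpP := h.pos P
  have hpQ := h.pos Q
  have hpZ := h.pos Z
  have hQ1 : deg Q ≠ 1 := fun hq => hQn.1 (h.one Q hq)
  refine ⟨B X * deg X, D P * deg P, D Q * deg Q, mul_ne_zero hBne hpX.ne', ?_, mul_ne_zero hDP hpP.ne',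
    mul_ne_zero hDQ hpQ.ne', ?_, ?_, hD1, ?_, ?_⟩
  · rw [show B X * deg X + 1 = -(A Z * deg Z) by omega, neg_ne_zero]
    exact mul_ne_zero hAZ hpZ.ne'
  · rcases hvQ with q | q <;> rw [q] <;> omega
  · rcases hvQ with q | q <;> rw [q] <;> omega
  · have hz : ((B X * deg X : ℤ) : ℚ) + 1 = -((A Z * deg Z : ℤ) : ℚ) := by
      rw [eq_neg_iff_add_eq_zero]
      exact_mod_cast (show B X * deg X + 1 + A Z * deg Z = 0 by omega)
    rw [triple_dot hXo.symm hZo hZX (fun i h1 h2 h3 => by rw [hoffA i h1 h2 h3]; simp), To, TX, TZ, h.Ao,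
      h.dego, hAX, hz]
    have hqZ : (deg Z : ℚ) ≠ 0 := by exact_mod_cast hpZ.ne'
    have hqX : (deg X : ℚ) ≠ 0 := by exact_mod_cast hpX.ne'
    rcases hs with q | q <;> rcases hvZ with r | r <;> rw [q, r] <;> push_cast <;> field_simp <;> ring
  · rw [triple_dot hPX.symm hQX hPQ.symm (fun i h1 h2 h3 => by rw [hoffD i h1 h2 h3]; simp), TX, TP, TQ, hDX]
    have hqP : (deg P : ℚ) ≠ 0 := by exact_mod_cast hpP.ne'
    have hqQ : (deg Q : ℚ) ≠ 0 := by exact_mod_cast hpQ.ne'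
    have hqX : (deg X : ℚ) ≠ 0 := by exact_mod_cast hpX.ne'
    rcases hs with q | q <;> rcases hvP with r | r <;> rcases hvQ with r' | r' <;> rw [q, r, r'] <;>
      push_cast <;> field_simp <;> ring

theorem odd_quotient : ∀ u : Fin 1153,
    (u.val : ℤ) - 576 ≠ 0 → 96 * ((u.val : ℤ) - 576 + 2) * ((u.val : ℤ) - 576 + 3) %
      (((u.val : ℤ) - 576) * ((u.val : ℤ) - 576)) = 0 →
    96 * ((u.val : ℤ) - 576 + 2) * ((u.val : ℤ) - 576 + 3) /
      (((u.val : ℤ) - 576) * ((u.val : ℤ) - 576)) % 2 = 1 →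
    (u.val : ℤ) - 576 = 8 ∨ (u.val : ℤ) - 576 = 24 ∨ (u.val : ℤ) - 576 = -8 ∨ (u.val : ℤ) - 576 = -24 := by
  decide +kernel

/-- The two orders. -/
theorem order_of_equations {k x d e : ℤ} (hk : 0 < k) (hodd : k % 2 = 1) (hx : x ≠ 0) (hx1 : x + 1 ≠ 0)
    (hd : d ≠ 0) (he : e ≠ 0) (he1 : e ≠ 1) (hsum : x + d + e = 0)
    (h1 : 1 + 4 / (x : ℚ) - 9 / ((x : ℚ) + 1) = 4608 / (48 * (k : ℚ)))
    (h2 : 4 / (x : ℚ) + 9 / (d : ℚ) + 1 / (e : ℚ) = 4608 / (48 * (k : ℚ))) :
    48 * k = 5616 ∨ 48 * k = 7920 := by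
  have qk : (k : ℚ) ≠ 0 := by exact_mod_cast hk.ne'
  have qx : (x : ℚ) ≠ 0 := by exact_mod_cast hx
  have qx1 : (x : ℚ) + 1 ≠ 0 := by exact_mod_cast hx1
  have qd : (d : ℚ) ≠ 0 := by exact_mod_cast hd
  have qe : (e : ℚ) ≠ 0 := by exact_mod_cast he
  have e1 : k * ((x - 2) * (x - 2)) = 96 * x * (x + 1) := by
    field_simp at h1
    have : ((k * ((x - 2) * (x - 2)) : ℤ) : ℚ) = ((96 * x * (x + 1) : ℤ) : ℚ) := by
      push_cast; linarith
    exact_mod_cast this
  have e2 : (x + 1 - 9) * (d * e) = (x + 1) * (9 * e + d) := by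
    rw [← h1] at h2
    field_simp at h2
    have : (((x + 1 - 9) * (d * e) : ℤ) : ℚ) = (((x + 1) * (9 * e + d) : ℤ) : ℚ) := by
      push_cast
      have hh : (x : ℚ) * (((x : ℚ) + 1 - 9) * (d * e)) = (x : ℚ) * ((x + 1) * (9 * e + d)) := by linarith
      exact mul_left_cancel₀ qx hh
    exact_mod_cast this
  obtain ⟨y, rfl⟩ : ∃ y, x = y + 2 := ⟨x - 2, by ring⟩
  simp only [add_sub_cancel_right] at e1
  have hy0 : y ≠ 0 := by
    rintro rfl
    norm_num at e1
  have hdvd : y ∣ 576 := ⟨k * y - 96 * y - 96 * 5, by linear_combination -e1⟩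
  have hle : y ≤ 576 ∧ -y ≤ 576 :=
    ⟨Int.le_of_dvd (by norm_num) hdvd, Int.le_of_dvd (by norm_num) (neg_dvd.2 hdvd)⟩
  obtain ⟨u, hu⟩ : ∃ u : Fin 1153, (u.val : ℤ) - 576 = y :=
    ⟨⟨(y + 576).toNat, by omega⟩, by simp only; omega⟩
  have hq : 96 * (y + 2) * (y + 3) = y * y * k := by linear_combination -e1
  have hmod : 96 * (y + 2) * (y + 3) % (y * y) = 0 := by rw [hq]; exact Int.mul_emod_right _ _
  have hdiv : 96 * (y + 2) * (y + 3) / (y * y) % 2 = 1 := by
    rw [hq, Int.mul_ediv_cancel_left _ (mul_ne_zero hy0 hy0)]; exact hodd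
  have hcases := odd_quotient u (by rw [hu]; exact hy0) (by rw [hu]; exact hmod) (by rw [hu]; exact hdiv)
  rw [hu] at hcases
  have hd' : d = -(y + 2) - e := by omega
  subst hd'
  rcases hcases with rfl | rfl | rfl | rfl
  · right; omega
  · left; omega
  · exfalso
    have : (7 * e - 15) * (e - 1) = 0 := by linarith
    rcases mul_eq_zero.1 this with q | q <;> omega
  · exfalso
    have : (5 * e - 77) * (e - 1) = 0 := by linarith
    rcases mul_eq_zero.1 this with q | q <;> omega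

end Cfsg.Agent.InvolCentGLTwoThree
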