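import Cfsg.Agent.Lib.InvolCentGLTwoThree.Local
import Cfsg.Agent.Lib.InvolCentGLTwoThree.Norms
import Cfsg.Agent.Lib.CharInt.TI
import Cfsg.Agent.Lib.CharInt.Basic
import Cfsg.Agent.Lib.Char.ClassSum
import Cfsg.Agent.Lib.Char.Linear
import Cfsg.Agent.Lib.SmallSimple.FivePairs
import Cfsg.Agent.Lib.ZStar.Main
import Cfsg.Agent.Lib.PCore.Basic
import Mathlib.GroupTheory.Sylow
import Mathlib.GroupTheory.Subgroup.Simple

/-!
# Simple groups with an involution centraliser `GL(2, 3)`: the order
-/

set_option autoImplicit false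
set_option linter.style.haveILetI false
set_option linter.unusedSectionVars false

namespace Cfsg.Agent.InvolCentGLTwoThree

open Cfsg Cfsg.Agent
open scoped Classical ComplexConjugate

universe u

variable {G : Type u} [Group G] [Fintype G]

/-- The setting. -/
structure Setup (t : G) (f : M ≃* Subgroup.centralizer ({t} : Set G)) : Prop where
  tz : ((f z : Subgroup.centralizer ({t} : Set G)) : G) = t
  isConj : ∀ u : M, u * u = 1 → u ≠ 1 → IsConj t ((f u : Subgroup.centralizer ({t} : Set G)) : G)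

variable {t : G} {f : M ≃* Subgroup.centralizer ({t} : Set G)}

/-- The transported function. -/
noncomputable def lift (f : M ≃* Subgroup.centralizer ({t} : Set G)) (F : M → ℤ√(-2)) :
    Subgroup.centralizer ({t} : Set G) → ℂ :=
  fun h => emb (F (f.symm h))

/-- The induced function. -/
noncomputable def nu (f : M ≃* Subgroup.centralizer ({t} : Set G)) (F : M → ℤ√(-2)) : G → ℂ :=
  indFun (Subgroup.centralizer ({t} : Set G)) (lift f F)

/-- The special elements of the centraliser. -/
def specials (f : M ≃* Subgroup.centralizer ({t} : Set G)) : Set G :=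
  {g | ∃ k : M, Special k ∧ ((f k : Subgroup.centralizer ({t} : Set G)) : G) = g}

theorem mem_specials_iff (h : Subgroup.centralizer ({t} : Set G)) :
    (h : G) ∈ specials f ↔ Special (f.symm h) := by
  constructor
  · rintro ⟨k, hk, e⟩
    rwa [← Subtype.ext e, MulEquiv.symm_apply_apply]
  · exact fun hk => ⟨_, hk, by rw [MulEquiv.apply_symm_apply]⟩

theorem ti (hS : Setup t f) : ∀ g : G, ∀ s ∈ specials f, g⁻¹ * s * g ∈ specials f →
    g ∈ Subgroup.centralizer ({t} : Set G) := by
  rintro g _ ⟨h, hh, rfl⟩ ⟨k, hk, e⟩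
  set φ : M →* G := (Subgroup.centralizer ({t} : Set G)).subtype.comp f.toMonoidHom with hφdef
  have hφ : Function.Injective φ := fun a b h => f.injective (Subtype.ext h)
  have hz : φ z = t := hS.tz
  have e' : φ k = g⁻¹ * φ h * g := e
  suffices ht : g⁻¹ * t * g = t by
    rw [Subgroup.mem_centralizer_singleton_iff]
    calc g * t = g * (g⁻¹ * t * g) := by rw [ht]
      _ = t * g := by group
  obtain ⟨-, -, -, hz2, hz1⟩ := s₀_facts
  have key : ∀ p : M → M, φ (p k) = g⁻¹ * φ (p h) * g → p h = z →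
      (p k = k ∨ p k = k * k ∨ p k = k * k * k ∨ p k = k * k * (k * k)) → g⁻¹ * t * g = t := by
    intro p hp hph hpk
    rw [hph, hz] at hp
    have h2 : p k * p k = 1 := hφ (by
      rw [map_mul, hp, map_one, show g⁻¹ * t * g * (g⁻¹ * t * g) = g⁻¹ * (t * t) * g by group, ← hz,
        ← map_mul, hz2, map_one]
      group)
    have h1 : p k ≠ 1 := fun h => hz1 (hφ (by
      rw [h, map_one] at hp
      rw [hz, map_one]
      calc t = g * (g⁻¹ * t * g) * g⁻¹ := by group
        _ = 1 := by rw [← hp]; group))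
    rw [← hp, square_root_z k hk (p k) hpk h2 h1, hz]
  rcases hh with hh | hh | hh | hh
  · exact key id (by simpa using e') hh (Or.inl rfl)
  · exact key (fun x => x * x) (by simp only [map_mul, e']; group) hh (Or.inr (Or.inl rfl))
  · exact key (fun x => x * x * x) (by simp only [map_mul, e']; group) hh (Or.inr (Or.inr (Or.inl rfl)))
  · exact key (fun x => x * x * (x * x)) (by simp only [map_mul, e']; group) hh
      (Or.inr (Or.inr (Or.inr rfl)))

theorem sum_lift {R : Type*} [AddCommMonoid R] (F : Subgroup.centralizer ({t} : Set G) → R) :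
    ∑ h, F h = ∑ k : M, F (f k) :=
  (Fintype.sum_equiv f.toEquiv (fun k => F (f k)) F fun _ => rfl).symm

theorem card_centralizer (f : M ≃* Subgroup.centralizer ({t} : Set G)) :
    Nat.card (Subgroup.centralizer ({t} : Set G)) = 48 := by
  rw [← Nat.card_congr f.toEquiv, Nat.card_eq_fintype_card, card_M]

theorem isGen_lift {F : M → ℤ√(-2)} (hF : IsGeneralizedCharacter M (fun h => emb (F h))) :
    IsGeneralizedCharacter (Subgroup.centralizer ({t} : Set G)) (lift f F) :=
  Char.IsGeneralizedCharacter.comp hF f.symm.toMonoidHom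

theorem supp_lift {F : M → ℤ√(-2)} (hF : ∀ h, ¬ Special h → F h = 0) :
    ∀ x : Subgroup.centralizer ({t} : Set G), (x : G) ∉ specials f → lift f F x = 0 := fun x hx => by
  rw [lift, hF _ fun h => hx ((mem_specials_iff x).2 h), map_zero]

theorem inner_nu (hS : Setup t f) {F F' : M → ℤ√(-2)} (hF : ∀ h, ¬ Special h → F h = 0)
    (hF' : ∀ h, ¬ Special h → F' h = 0) (hgen : IsGeneralizedCharacter M (fun h => emb (F' h))) {n : ℤ}
    (hg : gram F F' = 48 * (n : ℤ√(-2))) : classInner (nu f F) (nu f F') = (n : ℂ) := by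
  rw [nu, nu, CharInt.classInner_indFun_ti (ti hS) (supp_lift hF)
    (Char.IsGeneralizedCharacter.isClassFunction (isGen_lift hgen)) (supp_lift hF'), classInner,
    card_centralizer f, sum_lift (f := f)]
  simp only [lift, MulEquiv.symm_apply_apply, conj_emb, ← map_mul, ← map_sum]
  rw [show (∑ k : M, F k * star (F' k)) = gram F F' from rfl, hg, map_mul, map_intCast, map_ofNat]
  push_cast
  ring

theorem coeff (F : M → ℤ√(-2)) (χ : IrrCharacter G) : classInner (nu f F) χ.1 =
    (48 : ℂ)⁻¹ * ∑ k : M, emb (F k) * conj (χ.1 ((f k : Subgroup.centralizer ({t} : Set G)) : G)) := by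
  rw [nu, Char.classInner_indFun _ _ (Char.IsCharacter.isClassFunction (Char.irr_isCharacter χ)), classInner,
    card_centralizer f, sum_lift (f := f)]
  simp only [lift, MulEquiv.symm_apply_apply, Nat.cast_ofNat]

/-- The pairs of conjugators. -/
noncomputable def pairs (t g : G) : Finset (G × G) :=
  Finset.univ.filter fun p => p.1 * t * p.1⁻¹ * (p.2 * t * p.2⁻¹) = g

theorem card_pairs (hS : Setup t f) {k : M} (hk : Special k) :
    (pairs t ((f k : Subgroup.centralizer ({t} : Set G)) : G)).card = 2304 * (solutions k).card := by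
  set φ : M →* G := (Subgroup.centralizer ({t} : Set G)).subtype.comp f.toMonoidHom with hφdef
  have hφ : Function.Injective φ := fun a b h => f.injective (Subtype.ext h)
  have hz : φ z = t := hS.tz
  obtain ⟨-, -, -, hz2, hz1⟩ := s₀_facts
  have ht2 : t * t = 1 := by rw [← hz, ← map_mul, hz2, map_one]
  have htinv : t⁻¹ = t := inv_eq_of_mul_eq_one_right ht2
  have hsq : ∀ a : G, (a * t * a⁻¹) * (a * t * a⁻¹) = 1 := fun a => by
    rw [show a * t * a⁻¹ * (a * t * a⁻¹) = a * (t * t) * a⁻¹ by group, ht2]; group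
  rw [show ((f k : Subgroup.centralizer ({t} : Set G)) : G) = φ k from rfl,
    Finset.card_eq_sum_card_fiberwise (s := pairs t (φ k)) (f := fun p : G × G => p.1 * t * p.1⁻¹)
      (t := (solutions k).map ⟨φ, hφ⟩) ?_, Finset.sum_map]
  · rw [Finset.sum_congr rfl fun u hu => (?_ : _ = 2304), Finset.sum_const, smul_eq_mul, mul_comm]
    obtain ⟨hu2, hu1, huk, huk1⟩ := (Finset.mem_filter.1 hu).2
    have c1 : IsConj t (φ u) := hS.isConj u hu2 hu1
    have c2 : IsConj t (φ (u * k)) := hS.isConj (u * k) (by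
      rw [show u * k * (u * k) = u * k * u * k by group, huk, inv_mul_cancel]) huk1
    have huinv : φ u * φ u = 1 := by rw [← map_mul, hu2, map_one]
    calc _ = ((Finset.univ.filter fun a : G => a * t * a⁻¹ = φ u) ×ˢ
          (Finset.univ.filter fun a : G => a * t * a⁻¹ = φ (u * k))).card := by
          congr 1
          ext p
          simp only [pairs, Finset.mem_filter, Finset.mem_univ, true_and, Finset.mem_product,
            Function.Embedding.coeFn_mk, map_mul]
          constructor
          · rintro ⟨h1, h2⟩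
            refine ⟨h2, ?_⟩
            rw [← h1, h2, ← mul_assoc, huinv, one_mul]
          · rintro ⟨h1, h2⟩
            rw [h1, h2, ← mul_assoc, huinv, one_mul]
            exact ⟨rfl, rfl⟩
      _ = 2304 := by
          rw [Finset.card_product, FivePairs.card_conjugators t c1, FivePairs.card_conjugators t c2,
            card_centralizer f]
  · intro p hp
    have hp' : p.1 * t * p.1⁻¹ * (p.2 * t * p.2⁻¹) = φ k := (Finset.mem_filter.1 (Finset.mem_coe.1 hp)).2
    set u := p.1 * t * p.1⁻¹ with hu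
    set v := p.2 * t * p.2⁻¹ with hv
    have hvu : u * φ k = v := by rw [← hp', ← mul_assoc, hsq, one_mul]
    have hconj : u * φ k * u = (φ k)⁻¹ := by
      rw [hvu, ← hp', mul_inv_rev, inv_eq_of_mul_eq_one_right (hsq p.1), inv_eq_of_mul_eq_one_right (hsq p.2)]
    have huinv : u⁻¹ = u := inv_eq_of_mul_eq_one_right (hsq p.1)
    have hconjt : u * t * u = t := by
      have hpow : ∀ n : ℕ, u * φ k ^ n * u = ((φ k)⁻¹) ^ n := fun n => by
        nth_rewrite 2 [← huinv]
        rw [← conj_pow, huinv, hconj]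
      have : ∃ n : ℕ, φ k ^ n = t := by
        rcases hk with h | h | h | h
        · exact ⟨1, by rw [pow_one, h, hz]⟩
        · exact ⟨2, by rw [pow_two, ← map_mul, h, hz]⟩
        · exact ⟨3, by rw [pow_succ, pow_two, ← map_mul, ← map_mul, h, hz]⟩
        · exact ⟨4, by rw [show (4 : ℕ) = 2 + 2 from rfl, pow_add, pow_two, ← map_mul, ← map_mul, h, hz]⟩
      obtain ⟨n, hn⟩ := this
      rw [← hn, hpow, inv_pow, hn, htinv]
    have huH : u ∈ Subgroup.centralizer ({t} : Set G) := by
      rw [Subgroup.mem_centralizer_singleton_iff]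
      calc u * t = u * t * (u * u) := by rw [hsq, mul_one]
        _ = t * u := by rw [← mul_assoc, hconjt]
    obtain ⟨u', hu'⟩ : ∃ u' : M, φ u' = u := ⟨f.symm ⟨u, huH⟩, by simp [φ]⟩
    refine Finset.mem_coe.2 (Finset.mem_map.2 ⟨u', Finset.mem_filter.2 ⟨Finset.mem_univ _, ?_, ?_, ?_, ?_⟩, hu'⟩)
    · exact hφ (by rw [map_mul, hu', map_one]; exact hsq _)
    · intro h
      rw [h, map_one] at hu'
      have : t = 1 := by
        calc t = p.1⁻¹ * u * p.1 := by rw [hu]; group
          _ = 1 := by rw [← hu']; group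
      exact hz1 (hφ (by rw [hz, this, map_one]))
    · exact hφ (by rw [map_mul, map_mul, map_inv, hu', hconj])
    · intro h
      have hv1 : v = 1 := by rw [← hvu, ← hu', ← map_mul, h, map_one]
      have : t = 1 := by
        calc t = p.2⁻¹ * v * p.2 := by rw [hv]; group
          _ = 1 := by rw [hv1]; group
      exact hz1 (hφ (by rw [hz, this, map_one]))

theorem weighted (hS : Setup t f) {F : M → ℤ√(-2)} (hF : ∀ h, ¬ Special h → F h = 0)
    (hcount : (∑ h : M, F h * ((solutions h).card : ℤ√(-2))) = 96) :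
    ∑ χ : IrrCharacter G, classInner (nu f F) χ.1 * (χ.1 t * χ.1 t / χ.1 1) = 4608 / (Nat.card G : ℂ) := by
  have hG : (Nat.card G : ℂ) ≠ 0 := Nat.cast_ne_zero.2 Nat.card_pos.ne'
  simp only [coeff, Finset.mul_sum, Finset.sum_mul]
  rw [Finset.sum_comm]
  have key : ∀ k : M, ∑ χ : IrrCharacter G, (48 : ℂ)⁻¹ * (emb (F k) *
      conj (χ.1 ((f k : Subgroup.centralizer ({t} : Set G)) : G))) * (χ.1 t * χ.1 t / χ.1 1) =
      (48 : ℂ)⁻¹ * 2304 / (Nat.card G : ℂ) * emb (F k * ((solutions k).card : ℤ√(-2))) := by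
    intro k
    by_cases hk : Special k
    · have h := Char.card_conj_mul_conj_eq t t ((f k : Subgroup.centralizer ({t} : Set G)) : G)
      rw [Nat.card_eq_fintype_card (α := {p : G × G // _}), Fintype.card_subtype,
        show (Finset.univ.filter fun p : G × G => p.1 * t * p.1⁻¹ * (p.2 * t * p.2⁻¹) =
          ((f k : Subgroup.centralizer ({t} : Set G)) : G)) = pairs t _ from rfl, card_pairs hS hk] at h
      push_cast at h
      rw [map_mul, map_natCast]
      rw [show (∑ χ : IrrCharacter G, χ.1 t * χ.1 t * χ.1 ((f k : Subgroup.centralizer ({t} : Set G)) : G)⁻¹ / χ.1 1) =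
        ∑ χ : IrrCharacter G, χ.1 t ^ 2 * χ.1 ((f k : Subgroup.centralizer ({t} : Set G)) : G)⁻¹ / χ.1 1 from
          Finset.sum_congr rfl fun χ _ => by rw [sq]] at h
      calc _ = (48 : ℂ)⁻¹ * emb (F k) * ∑ χ : IrrCharacter G,
            χ.1 t ^ 2 * χ.1 ((f k : Subgroup.centralizer ({t} : Set G)) : G)⁻¹ / χ.1 1 := by
            rw [Finset.mul_sum]
            refine Finset.sum_congr rfl fun χ _ => ?_
            rw [Char.IsCharacter.conj_apply (Char.irr_isCharacter χ)]
            ring
        _ = _ := by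
            field_simp
            linear_combination -(emb (F k)) * h
    · simp [hF k hk]
  rw [Finset.sum_congr rfl fun k _ => key k, ← Finset.mul_sum, ← map_sum, hcount, map_ofNat]
  field_simp
  norm_num

theorem odd_quotient_order (hS : Setup t f) {k : ℕ} (hk : Nat.card G = 48 * k) : Odd k := by
  by_contra hodd
  rw [Nat.not_odd_iff_even, even_iff_two_dvd] at hodd
  haveI : Fact (Nat.Prime 2) := ⟨Nat.prime_two⟩
  set φ : M →* G := (Subgroup.centralizer ({t} : Set G)).subtype.comp f.toMonoidHom with hφdef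
  have hφ : Function.Injective φ := fun a b h => f.injective (Subtype.ext h)
  set S := subS.map φ with hSdef
  have hScard : Nat.card S = 2 ^ 4 := by
    rw [Subgroup.card_map_of_injective hφ, cards.1]; norm_num
  obtain ⟨c, hc⟩ := hodd
  obtain ⟨K, hK, hle⟩ := Sylow.exists_subgroup_card_pow_succ (p := 2) (n := 4)
    ⟨3 * c, by rw [hk, hc]; ring⟩ hScard
  have hidx : (S.subgroupOf K).index = 2 := by
    have := (S.subgroupOf K).card_mul_index
    rw [Nat.card_congr (Subgroup.subgroupOfEquivOfLe hle).toEquiv, hScard, hK] at this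
    omega
  haveI := Subgroup.normal_of_index_eq_two hidx
  have hnorm : ∀ g ∈ K, ∀ s ∈ S, g * s * g⁻¹ ∈ S := fun g hg s hs => by
    simpa [Subgroup.mem_subgroupOf] using
      (this.conj_mem ⟨s, hle hs⟩ (by simpa [Subgroup.mem_subgroupOf] using hs) ⟨g, hg⟩)
  obtain ⟨-, -, -, hz2, hz1⟩ := s₀_facts
  have hzS : z ∈ subS := Or.inl (z_comm w).symm
  have huniq : ∀ u : M, u ∈ subS → (∀ v : M, v ∈ subS → u * v = v * u) → u * u = 1 → u ≠ 1 → u = z := by
    have h : ∀ u : M, (u * w = w * u ∨ u * w = w * w * w * u) →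
        (∀ v : M, (v * w = w * v ∨ v * w = w * w * w * v) → u * v = v * u) → u * u = 1 → u ≠ 1 → u = z := by
      decide +kernel
    exact fun u hu hv => h u hu hv
  have hKle : K ≤ Subgroup.centralizer ({t} : Set G) := by
    intro g hg
    obtain ⟨u, hu, hue⟩ := hnorm g hg t ⟨z, hzS, hS.tz⟩
    have hz : φ z = t := hS.tz
    have hu' : u = z := huniq u hu (fun v hv => hφ (by
      obtain ⟨v', hv', hve⟩ := hnorm g⁻¹ (inv_mem hg) (φ v) ⟨v, hv, rfl⟩
      rw [inv_inv] at hve
      have hcz := congrArg φ (z_comm v')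
      rw [map_mul, map_mul, hz] at hcz
      rw [map_mul, map_mul, hue, show φ v = g * φ v' * g⁻¹ by rw [hve]; group]
      calc g * t * g⁻¹ * (g * φ v' * g⁻¹) = g * (t * φ v') * g⁻¹ := by group
        _ = g * (φ v' * t) * g⁻¹ := by rw [hcz]
        _ = g * φ v' * g⁻¹ * (g * t * g⁻¹) := by group))
      (hφ (by rw [map_mul, hue, ← hz, map_one,
        show g * φ z * g⁻¹ * (g * φ z * g⁻¹) = g * φ (z * z) * g⁻¹ by rw [map_mul]; group, hz2, map_one]
              group))
      (fun h => hz1 (hφ (by
        rw [h, map_one] at hue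
        rw [hz, map_one]
        calc t = g⁻¹ * (g * t * g⁻¹) * g := by group
          _ = 1 := by rw [← hue]; group)))
    rw [hu', hz] at hue
    rw [Subgroup.mem_centralizer_singleton_iff]
    calc g * t = g * t * g⁻¹ * g := by group
      _ = t * g := by rw [← hue]
  have := Subgroup.card_dvd_of_le hKle
  rw [hK, card_centralizer f] at this
  omega

/-- **The theorem.** -/
theorem card_eq [IsSimpleGroup G] {t : G} (ht : orderOf t = 2)
    (e : Subgroup.centralizer ({t} : Set G) ≃* Matrix.GeneralLinearGroup (Fin 2) (ZMod 3)) :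
    Nat.card G = 5616 ∨ Nat.card G = 7920 := by
  set f : M ≃* Subgroup.centralizer ({t} : Set G) := toGL.trans e.symm with hf
  set φ : M →* G := (Subgroup.centralizer ({t} : Set G)).subtype.comp f.toMonoidHom with hφdef
  have hφ : Function.Injective φ := fun a b h => f.injective (Subtype.ext h)
  have ht2 : t * t = 1 := by rw [← pow_two, ← ht, pow_orderOf_eq_one]
  have ht1 : t ≠ 1 := fun h => by rw [h, orderOf_one] at ht; omega
  obtain ⟨hs2, hs1, hsz, hz2, hz1⟩ := s₀_facts
  have htH : t ∈ Subgroup.centralizer ({t} : Set G) := Subgroup.mem_centralizer_singleton_iff.2 rfl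
  have htz : φ z = t := by
    obtain ⟨u, hu⟩ := f.surjective ⟨t, htH⟩
    have hu' : φ u = t := congrArg Subtype.val hu
    have := z_unique u (fun v => hφ (by
      rw [map_mul, map_mul, hu']
      exact (Subgroup.mem_centralizer_singleton_iff.1 (f v).2).symm))
      (hφ (by rw [map_mul, hu', ht2, map_one])) (fun h => ht1 (by rw [← hu', h, map_one]))
    rw [← this, hu']
  have hnc : ¬ ∀ a b : G, a * b = b * a := fun h => by
    have : ¬ ∀ a b : M, a * b = b * a := by decide +kernel
    exact this fun a b => hφ (by rw [map_mul, map_mul, h])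
  have hs0 : IsConj t (φ s₀) := by
    by_contra hne
    have hiso : IsIsolatedInvolution t := by
      refine ⟨ht, fun g hg => ?_⟩
      by_contra hgt
      have hmem : g * t * g⁻¹ ∈ Subgroup.centralizer ({t} : Set G) :=
        Subgroup.mem_centralizer_singleton_iff.2 hg.eq.symm
      obtain ⟨u, hu⟩ := f.surjective ⟨_, hmem⟩
      have hu' : φ u = g * t * g⁻¹ := congrArg Subtype.val hu
      rcases involutions u (hφ (by
        rw [map_mul, hu', map_one, show g * t * g⁻¹ * (g * t * g⁻¹) = g * (t * t) * g⁻¹ by group, ht2]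
        group)) (fun h => ht1 (by
          rw [h, map_one] at hu'
          calc t = g⁻¹ * (g * t * g⁻¹) * g := by group
            _ = 1 := by rw [← hu']; group)) with rfl | ⟨a, ha⟩
      · exact hgt (by rw [← hu', htz])
      · refine hne (isConj_iff.2 ⟨(φ a)⁻¹ * g, ?_⟩)
        rw [show (φ a)⁻¹ * g * t * ((φ a)⁻¹ * g)⁻¹ = (φ a)⁻¹ * (g * t * g⁻¹) * φ a by group, ← hu', ← ha,
          map_mul, map_mul, map_inv]
        group
    have hz' := ZStar.inZStar hiso
    rcases (inferInstance : (pPrimeCore 2 G).Normal).eq_bot_or_eq_top with hb | htop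
    · have hc : t ∈ Subgroup.center G := ZStar.mem_center_of_oddCore_eq_bot hz' hb
      rcases (inferInstance : (Subgroup.center G).Normal).eq_bot_or_eq_top with hb' | ht'
      · rw [hb', Subgroup.mem_bot] at hc; exact ht1 hc
      · exact hnc fun a b => (Subgroup.mem_center_iff.1 (ht' ▸ Subgroup.mem_top a) b).symm
    · haveI : Fact (Nat.Prime 2) := ⟨Nat.prime_two⟩
      have h2 : ¬ 2 ∣ Nat.card (pPrimeCore 2 G) := PCore.not_dvd_card_pPrimeCore
      rw [htop, Nat.card_congr Subgroup.topEquiv.toEquiv, ← ht] at h2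
      exact h2 (orderOf_dvd_natCard t)
  have hS : Setup t f := ⟨htz, fun u hu2 hu1 => by
    rcases involutions u hu2 hu1 with rfl | ⟨a, rfl⟩
    · rw [show ((f z : Subgroup.centralizer ({t} : Set G)) : G) = φ z from rfl, htz]
    · refine hs0.trans (isConj_iff.2 ⟨φ a, ?_⟩)
      show φ a * φ s₀ * (φ a)⁻¹ = φ (a * s₀ * a⁻¹)
      rw [map_mul, map_mul, map_inv]⟩
  have sA : ∀ h, ¬ Special h → fA h = 0 := fun h hh => (tab_support h hh).1
  have sB : ∀ h, ¬ Special h → fB h = 0 := fun h hh => (tab_support h hh).2.1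
  have sB' : ∀ h, ¬ Special h → fB' h = 0 := fun h hh => (tab_support h hh).2.2.1
  have sC : ∀ h, ¬ Special h → fC h = 0 := fun h hh => (tab_support h hh).2.2.2.1
  have sD : ∀ h, ¬ Special h → fD h = 0 := fun h hh => (tab_support h hh).2.2.2.2
  have mult : ∀ {F : M → ℤ√(-2)}, IsGeneralizedCharacter M (fun h => emb (F h)) →
      ∃ m : IrrCharacter G → ℤ, nu f F = ∑ ψ, (m ψ : ℂ) • ψ.1 ∧ ∀ ψ, classInner (nu f F) ψ.1 = m ψ :=
    fun hF => Char.IsGeneralizedCharacter.exists_decomp (Char.isGeneralizedCharacter_indFun _ (isGen_lift hF))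
  obtain ⟨mA, dA, cA⟩ := mult isGen_fA
  obtain ⟨mB, dB, cB⟩ := mult isGen_fB
  obtain ⟨mB', dB', cB'⟩ := mult isGen_fB'
  obtain ⟨mC, dC, cC⟩ := mult isGen_fC
  obtain ⟨mD, dD, cD⟩ := mult isGen_fD
  have dot : ∀ {F F' : M → ℤ√(-2)} {m m' : IrrCharacter G → ℤ} {n : ℤ},
      nu f F' = ∑ ψ, (m' ψ : ℂ) • ψ.1 → (∀ ψ, classInner (nu f F) ψ.1 = m ψ) →
      classInner (nu f F) (nu f F') = (n : ℂ) → ∑ ψ, m ψ * m' ψ = n := by
    intro F F' m m' n h1 h2 h3
    rw [h1, Char.classInner_sum_right] at h3
    simp only [Char.classInner_smul_right, map_intCast, h2] at h3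
    have : ((∑ ψ, m ψ * m' ψ : ℤ) : ℂ) = (n : ℂ) := by
      push_cast; rw [← h3]; exact Finset.sum_congr rfl fun ψ _ => mul_comm _ _
    exact_mod_cast this
  choose deg hdpos hdeg using fun χ : IrrCharacter G => CharInt.irr_degree_pos χ.2
  have atone : ∀ {F : M → ℤ√(-2)} {m : IrrCharacter G → ℤ}, nu f F = ∑ ψ, (m ψ : ℂ) • ψ.1 → F 1 = 0 →
      ∑ ψ, m ψ * (deg ψ : ℤ) = 0 := by
    intro F m h1 h0
    have h := congrFun h1 1
    rw [nu, Char.indFun_apply_one, lift, map_one, h0, map_zero, mul_zero, Finset.sum_apply] at h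
    simp only [Pi.smul_apply, hdeg, smul_eq_mul] at h
    have : ((∑ ψ, m ψ * (deg ψ : ℤ) : ℤ) : ℂ) = 0 := by push_cast; exact h.symm
    exact_mod_cast this
  have triv : ∀ {F : M → ℤ√(-2)} {m : IrrCharacter G → ℤ} {n : ℤ}, (∀ ψ, classInner (nu f F) ψ.1 = m ψ) →
      (∑ h : M, F h) = 48 * (n : ℤ√(-2)) → m (Char.trivialChar G) = n := by
    intro F m n h1 h2
    have h := h1 (Char.trivialChar G)
    rw [coeff] at h
    simp only [Char.trivialChar_apply, map_one, mul_one, ← map_sum, h2, map_mul, map_intCast, map_ofNat] at h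
    push_cast at h
    ring_nf at h
    exact_mod_cast h.symm
  have one : ∀ χ : IrrCharacter G, (deg χ : ℤ) = 1 → χ = Char.trivialChar G := by
    intro χ hχ
    obtain ⟨lam, hlam⟩ := Char.IsCharacter.exists_monoidHom (Char.irr_isCharacter χ)
      (by rw [hdeg]; exact_mod_cast hχ)
    rcases (inferInstance : lam.toHomUnits.ker.Normal).eq_bot_or_eq_top with hb | htop
    · exact absurd (fun a b => (lam.toHomUnits.ker_eq_bot_iff).1 hb (by rw [map_mul, map_mul, mul_comm])) hnc
    · refine Subtype.ext (funext fun g => ?_)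
      have hg : lam.toHomUnits g = 1 := MonoidHom.mem_ker.1 (htop ▸ Subgroup.mem_top g)
      have := congrArg Units.val hg
      rw [MonoidHom.coe_toHomUnits, Units.val_one] at this
      rw [← hlam, this, Char.trivialChar_apply]
  obtain ⟨gAA, gBB, gBB', gCC, gDD, gAB, gAB', gAC, gAD, gbb, gBC, gB'C, gDB, gDB', gCD⟩ := gram_table
  obtain ⟨uA, uB, uB', uC, uD⟩ := totals
  obtain ⟨oA, oB, oB', oC, oD⟩ := tab_at_one
  have hdata : Data (fun χ => (deg χ : ℤ)) mA mB mB' mC mD (Char.trivialChar G) :=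
    { pos := fun χ => by exact_mod_cast hdpos χ
      dego := by
        have := hdeg (Char.trivialChar G)
        rw [Char.trivialChar_apply] at this
        exact_mod_cast this.symm
      one := one
      AA := dot dA cA (inner_nu hS sA sA isGen_fA (n := 3) (by exact_mod_cast gAA))
      BB := dot dB cB (inner_nu hS sB sB isGen_fB (n := 2) (by exact_mod_cast gBB))
      BB' := dot dB' cB' (inner_nu hS sB' sB' isGen_fB' (n := 2) (by exact_mod_cast gBB'))
      CC := dot dC cC (inner_nu hS sC sC isGen_fC (n := 3) (by exact_mod_cast gCC))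
      DD := dot dD cD (inner_nu hS sD sD isGen_fD (n := 3) (by exact_mod_cast gDD))
      AB := dot dB cA (inner_nu hS sA sB isGen_fB (n := 1) (by exact_mod_cast gAB))
      AB' := dot dB' cA (inner_nu hS sA sB' isGen_fB' (n := 1) (by exact_mod_cast gAB'))
      AC := dot dC cA (inner_nu hS sA sC isGen_fC (n := 1) (by exact_mod_cast gAC))
      AD := dot dD cA (inner_nu hS sA sD isGen_fD (n := 1) (by exact_mod_cast gAD))
      bb := dot dB' cB (inner_nu hS sB sB' isGen_fB' (n := 1) (by exact_mod_cast gbb))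
      BC := dot dC cB (inner_nu hS sB sC isGen_fC (n := 0) (by exact_mod_cast gBC))
      B'C := dot dC cB' (inner_nu hS sB' sC isGen_fC (n := 0) (by exact_mod_cast gB'C))
      DB := dot dB cD (inner_nu hS sD sB isGen_fB (n := 1) (by exact_mod_cast gDB))
      DB' := dot dB' cD (inner_nu hS sD sB' isGen_fB' (n := 1) (by exact_mod_cast gDB'))
      CD := dot dD cC (inner_nu hS sC sD isGen_fD (n := -1) (by exact_mod_cast gCD))
      Ao := triv cA (by exact_mod_cast uA)
      Bo := triv cB (by exact_mod_cast uB)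
      B'o := triv cB' (by exact_mod_cast uB')
      Co := triv cC (by exact_mod_cast uC)
      Do := triv cD (by exact_mod_cast uD)
      A1 := atone dA oA
      B1 := atone dB oB
      B'1 := atone dB' oB'
      D1 := atone dD oD }
  set T : IrrCharacter G → ℤ := fun χ => 4 * mC χ + 2 * (mB χ + mB' χ) - 3 * mA χ + mD χ with hT
  have hTval : ∀ χ : IrrCharacter G, χ.1 t = (T χ : ℂ) := by
    intro χ
    have h1 : ((T χ : ℤ) : ℂ) = conj (χ.1 t) := by
      simp only [hT]
      push_cast
      rw [← cA, ← cB, ← cB', ← cC, ← cD, coeff, coeff, coeff, coeff, coeff]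
      calc _ = (48 : ℂ)⁻¹ * ∑ k : M, emb (4 * fC k + 2 * (fB k + fB' k) - 3 * fA k + fD k) *
            conj (χ.1 ((f k : Subgroup.centralizer ({t} : Set G)) : G)) := by
            simp only [map_add, map_sub, map_mul, map_ofNat, add_mul, sub_mul, mul_assoc, Finset.sum_add_distrib,
              Finset.sum_sub_distrib, ← Finset.mul_sum]
            ring
        _ = _ := by
            simp only [indicator_z, apply_ite emb, map_zero, map_ofNat, ite_mul, zero_mul, Finset.sum_ite_eq',
              Finset.mem_univ, if_true]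
            rw [show ((f z : Subgroup.centralizer ({t} : Set G)) : G) = t from htz]
            ring
    rw [← Complex.conj_conj (χ.1 t), ← h1, map_intCast]
  obtain ⟨x, d, e', hx, hx1, hd, he, he1, -, hsum, hA, hD⟩ := hdata.equations (T := T) fun _ => rfl
  obtain ⟨k, hk⟩ : 48 ∣ Nat.card G := card_centralizer f ▸ Subgroup.card_subgroup_dvd_card _
  have hkpos : 0 < k := Nat.pos_of_ne_zero fun h => by
    rw [h, mul_zero] at hk; exact Nat.card_pos.ne' hk
  have hodd := Nat.odd_iff.1 (odd_quotient_order hS hk)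
  have eq : ∀ {F : M → ℤ√(-2)} {m : IrrCharacter G → ℤ}, (∀ h, ¬ Special h → F h = 0) →
      (∑ h : M, F h * ((solutions h).card : ℤ√(-2))) = 96 → (∀ ψ, classInner (nu f F) ψ.1 = m ψ) →
      (∑ i, (m i : ℚ) * (T i : ℚ) ^ 2 / ((deg i : ℤ) : ℚ)) = 4608 / (48 * ((k : ℤ) : ℚ)) := by
    intro F m hF hc hm
    have h := weighted hS hF hc
    rw [hk] at h
    have : (((∑ i, (m i : ℚ) * (T i : ℚ) ^ 2 / ((deg i : ℤ) : ℚ)) : ℚ) : ℂ) =
        ((4608 / (48 * ((k : ℤ) : ℚ)) : ℚ) : ℂ) := by
      push_cast at h ⊢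
      rw [← h]
      refine Finset.sum_congr rfl fun χ _ => ?_
      rw [hm, hTval, hdeg]
      ring
    exact_mod_cast this
  rcases order_of_equations (k := (k : ℤ)) (by exact_mod_cast hkpos) (by omega) hx hx1 hd he he1 hsum
      (hA ▸ eq sA count_four.1 cA) (hD ▸ eq sD count_four.2 cD) with h | h
  · left; omega
  · right; omega

end Cfsg.Agent.InvolCentGLTwoThree
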