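import Mathlib.NumberTheory.Zsqrtd.Basic
import Mathlib.LinearAlgebra.Matrix.GeneralLinearGroup.Defs
import Mathlib.Algebra.Field.ZMod
import Mathlib.Tactic.Ring
import Mathlib.Tactic.LinearCombination

/-!
# A computable model of `GL(2, 3)` and the five class functions on its special classes

Entries are the quadruples `(a, b, c, d)` with `a d - b c ≠ 0`.
-/

set_option autoImplicit false

namespace Cfsg.Agent.InvolCentGLTwoThree

/-- The determinant of a quadruple. -/
def det4 (q : ZMod 3 × ZMod 3 × ZMod 3 × ZMod 3) : ZMod 3 := q.1 * q.2.2.2 - q.2.1 * q.2.2.1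

/-- The model. -/
@[ext] structure M where
  a : ZMod 3
  b : ZMod 3
  c : ZMod 3
  d : ZMod 3
  det_ne : a * d - b * c ≠ 0
deriving DecidableEq

instance instFintypeM : Fintype M :=
  Fintype.ofEquiv {q : ZMod 3 × ZMod 3 × ZMod 3 × ZMod 3 // det4 q ≠ 0}
    { toFun := fun q => ⟨q.1.1, q.1.2.1, q.1.2.2.1, q.1.2.2.2, q.2⟩
      invFun := fun m => ⟨(m.a, m.b, m.c, m.d), m.det_ne⟩
      left_inv := fun _ => rfl
      right_inv := fun _ => rfl }

theorem det_sq_inv : ∀ x : ZMod 3, x ≠ 0 → x * x = 1 := by decide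

instance : Mul M := ⟨fun x y => ⟨x.a * y.a + x.b * y.c, x.a * y.b + x.b * y.d,
  x.c * y.a + x.d * y.c, x.c * y.b + x.d * y.d, by
    have h : (x.a * y.a + x.b * y.c) * (x.c * y.b + x.d * y.d) -
        (x.a * y.b + x.b * y.d) * (x.c * y.a + x.d * y.c) =
        (x.a * x.d - x.b * x.c) * (y.a * y.d - y.b * y.c) := by ring
    rw [h]
    haveI : Fact (Nat.Prime 3) := ⟨Nat.prime_three⟩
    exact mul_ne_zero x.det_ne y.det_ne⟩⟩

instance : One M := ⟨⟨1, 0, 0, 1, by decide⟩⟩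

instance : Inv M := ⟨fun x => ⟨x.d * (x.a * x.d - x.b * x.c), -x.b * (x.a * x.d - x.b * x.c),
  -x.c * (x.a * x.d - x.b * x.c), x.a * (x.a * x.d - x.b * x.c), by
    have h : x.d * (x.a * x.d - x.b * x.c) * (x.a * (x.a * x.d - x.b * x.c)) -
        -x.b * (x.a * x.d - x.b * x.c) * (-x.c * (x.a * x.d - x.b * x.c)) =
        (x.a * x.d - x.b * x.c) * ((x.a * x.d - x.b * x.c) * (x.a * x.d - x.b * x.c)) := by ring
    rw [h, det_sq_inv _ x.det_ne, mul_one]
    exact x.det_ne⟩⟩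

theorem mul_a (x y : M) : (x * y).a = x.a * y.a + x.b * y.c := rfl
theorem mul_b (x y : M) : (x * y).b = x.a * y.b + x.b * y.d := rfl
theorem mul_c (x y : M) : (x * y).c = x.c * y.a + x.d * y.c := rfl
theorem mul_d (x y : M) : (x * y).d = x.c * y.b + x.d * y.d := rfl

instance : Group M where
  mul_assoc x y z := by ext <;> simp only [mul_a, mul_b, mul_c, mul_d] <;> ring
  one_mul x := by
    ext <;> simp only [mul_a, mul_b, mul_c, mul_d, show (1 : M).a = 1 from rfl,
      show (1 : M).b = 0 from rfl, show (1 : M).c = 0 from rfl, show (1 : M).d = 1 from rfl] <;> ring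
  mul_one x := by
    ext <;> simp only [mul_a, mul_b, mul_c, mul_d, show (1 : M).a = 1 from rfl,
      show (1 : M).b = 0 from rfl, show (1 : M).c = 0 from rfl, show (1 : M).d = 1 from rfl] <;> ring
  inv_mul_cancel x := by
    have h := det_sq_inv _ x.det_ne
    ext <;> simp only [mul_a, mul_b, mul_c, mul_d, show ∀ y : M, y⁻¹.a = y.d * (y.a * y.d - y.b * y.c) from fun _ => rfl,
      show ∀ y : M, y⁻¹.b = -y.b * (y.a * y.d - y.b * y.c) from fun _ => rfl,
      show ∀ y : M, y⁻¹.c = -y.c * (y.a * y.d - y.b * y.c) from fun _ => rfl,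
      show ∀ y : M, y⁻¹.d = y.a * (y.a * y.d - y.b * y.c) from fun _ => rfl,
      show (1 : M).a = 1 from rfl,
      show (1 : M).b = 0 from rfl, show (1 : M).c = 0 from rfl, show (1 : M).d = 1 from rfl]
    · linear_combination h
    · ring
    · ring
    · linear_combination h

/-- The model is `GL(2, 3)`. -/
noncomputable def toGL : M ≃* Matrix.GeneralLinearGroup (Fin 2) (ZMod 3) :=
  MulEquiv.ofBijective
    (MonoidHom.mk' (fun x : M => haveI : Fact (Nat.Prime 3) := ⟨Nat.prime_three⟩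
      Matrix.GeneralLinearGroup.mkOfDetNeZero !![x.a, x.b; x.c, x.d]
        (by rw [Matrix.det_fin_two_of]; exact x.det_ne)) (fun x y => Units.ext (by
      show !![(x * y).a, (x * y).b; (x * y).c, (x * y).d] =
        !![x.a, x.b; x.c, x.d] * !![y.a, y.b; y.c, y.d]
      rw [Matrix.mul_fin_two]
      simp only [mul_a, mul_b, mul_c, mul_d]))) ⟨fun x y h => by
    have h' : !![x.a, x.b; x.c, x.d] = !![y.a, y.b; y.c, y.d] := congrArg Units.val h
    ext
    · exact congrFun (congrFun h' 0) 0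
    · exact congrFun (congrFun h' 0) 1
    · exact congrFun (congrFun h' 1) 0
    · exact congrFun (congrFun h' 1) 1, fun g => ⟨⟨(g : Matrix (Fin 2) (Fin 2) (ZMod 3)) 0 0,
      (g : Matrix (Fin 2) (Fin 2) (ZMod 3)) 0 1, (g : Matrix (Fin 2) (Fin 2) (ZMod 3)) 1 0,
      (g : Matrix (Fin 2) (Fin 2) (ZMod 3)) 1 1, by
        haveI : Fact (Nat.Prime 3) := ⟨Nat.prime_three⟩
        rw [← Matrix.det_fin_two]
        exact Matrix.GeneralLinearGroup.det_ne_zero g⟩, Units.ext (Matrix.eta_fin_two _).symm⟩⟩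

/-- The central involution. -/
def z : M := ⟨2, 0, 0, 2, by decide⟩

/-- A non-central involution. -/
def s₀ : M := ⟨1, 0, 0, 2, by decide⟩

/-- An element of order eight of trace one. -/
def w : M := ⟨0, 1, 1, 1, by decide⟩

/-- Trace. -/
def tr (h : M) : ZMod 3 := h.a + h.d

/-- Determinant. -/
def dt (h : M) : ZMod 3 := h.a * h.d - h.b * h.c

/-- A function on the special classes, zero elsewhere. -/
def tab (vz v4 v6 v8 v8' : ℤ√(-2)) (h : M) : ℤ√(-2) :=
  if h.b = 0 ∧ h.c = 0 ∧ h.a = h.d then (if h.a = 2 then vz else 0)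
  else if tr h = 0 ∧ dt h = 1 then v4
  else if tr h = 1 ∧ dt h = 1 then v6
  else if tr h = 1 ∧ dt h = 2 then v8
  else if tr h = 2 ∧ dt h = 2 then v8'
  else 0

/-- `1 + 2 - 3`. -/
def fA : M → ℤ√(-2) := tab 0 4 0 2 2
/-- `2 - 2'`. -/
def fB : M → ℤ√(-2) := tab 4 2 (-2) ⟨0, -1⟩ ⟨0, 1⟩
/-- `2 - 2''`. -/
def fB' : M → ℤ√(-2) := tab 4 2 (-2) ⟨0, 1⟩ ⟨0, -1⟩
/-- `1 + 3' - 4`. -/
def fC : M → ℤ√(-2) := tab 8 0 2 2 2
/-- `ε + 2 - 3'`. -/
def fD : M → ℤ√(-2) := tab 0 4 0 (-2) (-2)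

/-- The special elements: some power is `z`. -/
def Special (h : M) : Prop :=
  h = z ∨ h * h = z ∨ h * h * h = z ∨ h * h * (h * h) = z

instance : DecidablePred Special := fun h => by unfold Special; infer_instance

theorem tab_support : ∀ h : M, ¬ Special h →
    fA h = 0 ∧ fB h = 0 ∧ fB' h = 0 ∧ fC h = 0 ∧ fD h = 0 := by decide +kernel

theorem tab_at_one : fA 1 = 0 ∧ fB 1 = 0 ∧ fB' 1 = 0 ∧ fC 1 = 0 ∧ fD 1 = 0 := by decide +kernel

/-- The unnormalised inner product. -/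
def gram (f g : M → ℤ√(-2)) : ℤ√(-2) := ∑ h : M, f h * star (g h)

theorem gram_table :
    gram fA fA = 48 * 3 ∧ gram fB fB = 48 * 2 ∧ gram fB' fB' = 48 * 2 ∧ gram fC fC = 48 * 3 ∧
    gram fD fD = 48 * 3 ∧ gram fA fB = 48 * 1 ∧ gram fA fB' = 48 * 1 ∧ gram fA fC = 48 * 1 ∧
    gram fA fD = 48 * 1 ∧ gram fB fB' = 48 * 1 ∧ gram fB fC = 48 * 0 ∧ gram fB' fC = 48 * 0 ∧
    gram fD fB = 48 * 1 ∧ gram fD fB' = 48 * 1 ∧ gram fC fD = 48 * (-1) := by decide +kernel

theorem totals : (∑ h : M, fA h) = 48 * 1 ∧ (∑ h : M, fB h) = 48 * 0 ∧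
    (∑ h : M, fB' h) = 48 * 0 ∧ (∑ h : M, fC h) = 48 * 1 ∧ (∑ h : M, fD h) = 48 * 0 := by
  decide +kernel

theorem indicator_z : ∀ h : M, 4 * fC h + 2 * (fB h + fB' h) - 3 * fA h + fD h =
    if h = z then 48 else 0 := by decide +kernel

/-- The involutions inverting `h` whose product with `h` is an involution. -/
def solutions (h : M) : Finset M :=
  Finset.univ.filter fun u => u * u = 1 ∧ u ≠ 1 ∧ u * h * u = h⁻¹ ∧ u * h ≠ 1

theorem count_four : (∑ h : M, fA h * ((solutions h).card : ℤ√(-2))) = 96 ∧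
    (∑ h : M, fD h * ((solutions h).card : ℤ√(-2))) = 96 := by decide +kernel

theorem involutions : ∀ u : M, u * u = 1 → u ≠ 1 → u = z ∨ ∃ g : M, g * s₀ * g⁻¹ = u := by
  decide +kernel

theorem s₀_facts : s₀ * s₀ = 1 ∧ s₀ ≠ 1 ∧ s₀ ≠ z ∧ z * z = 1 ∧ z ≠ 1 := by decide +kernel

theorem z_comm : ∀ u : M, u * z = z * u := by decide +kernel

theorem z_unique : ∀ u : M, (∀ v : M, u * v = v * u) → u * u = 1 → u ≠ 1 → u = z := by
  decide +kernel

theorem card_M : Fintype.card M = 48 := by decide +kernel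

theorem square_root_z : ∀ h : M, Special h → ∀ k : M,
    (k = h ∨ k = h * h ∨ k = h * h * h ∨ k = h * h * (h * h)) → k * k = 1 → k ≠ 1 → k = z := by
  decide +kernel

/-! ### The class functions from permutation and monomial characters -/

/-- Powers of `w`. -/
def wpow : List M := [1, w, w * w, w * w * w, w * w * (w * w), w * w * (w * w) * w,
  w * w * (w * w) * (w * w), w * w * (w * w) * (w * w * w)]

/-- The exponent on the torus. -/
def idx (h : M) : ℕ := wpow.idxOf h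

theorem idx_mul : ∀ x y : M, x * w = w * x → y * w = w * y → idx (x * y) = (idx x + idx y) % 8 := by
  decide +kernel

theorem idx_one : idx 1 = 0 := by decide +kernel

/-- Fixed cosets counted with multiplicity, for the Sylow 2-subgroup. -/
def cntS (h : M) : ℤ := (Finset.univ.filter fun x : M =>
  (x⁻¹ * h * x) * w = w * (x⁻¹ * h * x) ∨ (x⁻¹ * h * x) * w = w * w * w * (x⁻¹ * h * x)).card

/-- Fixed cosets counted with multiplicity, for the Borel subgroup. -/
def cntB (h : M) : ℤ := (Finset.univ.filter fun x : M => (x⁻¹ * h * x).c = 0).card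

/-- The monomial count for the sign on the Borel subgroup. -/
def cntL (h : M) : ℤ := ∑ x : M,
  if (x⁻¹ * h * x).c = 0 then (if (x⁻¹ * h * x).a = 1 then 1 else -1) else 0

/-- The monomial count on the torus, by exponents. -/
def cntT (h : M) (j : ℕ) : ℤ := (Finset.univ.filter fun x : M =>
  (x⁻¹ * h * x) * w = w * (x⁻¹ * h * x) ∧ idx (x⁻¹ * h * x) = j).card

/-- The sign of the determinant. -/
def sgn (h : M) : ℤ := if dt h = 1 then 1 else -1

theorem sgn_mul : ∀ x y : M, sgn (x * y) = sgn x * sgn y := by decide +kernel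

theorem fA_eq : ∀ h : M, 48 * fA h = ((3 * cntS h - 4 * cntB h + 48 : ℤ) : ℤ√(-2)) := by
  decide +kernel

theorem fD_eq : ∀ h : M, fD h = (sgn h : ℤ√(-2)) * fA h := by decide +kernel

theorem fC_eq : ∀ h : M, 48 * fC h =
    ((48 + sgn h * (4 * cntB h - 48) - 4 * cntL h : ℤ) : ℤ√(-2)) := by decide +kernel

theorem fB_eq : ∀ h : M, 48 * (fB h).re = 3 * cntS h - 48 - 6 * (cntT h 0 - cntT h 4) + 4 * cntL h ∧
    48 * (fB h).im = -(6 * (cntT h 1 - cntT h 5)) ∧ cntT h 3 - cntT h 7 = cntT h 1 - cntT h 5 ∧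
    cntT h 2 = cntT h 6 := by decide +kernel

theorem fB'_eq : ∀ h : M, (fB' h).re = (fB h).re ∧ (fB' h).im = -(fB h).im := by decide +kernel

end Cfsg.Agent.InvolCentGLTwoThree
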