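import Cfsg.Agent.Lib.InvolCentGLTwoThree.Main
import Mathlib.GroupTheory.FixedPointFree
import Cfsg.Prelude.Def_Transfer

/-!
# An involution centraliser `GL(2, 3)` in a group with no quotient of order two forces simplicity
-/

set_option autoImplicit false
set_option linter.style.haveILetI false
set_option linter.unusedSectionVars false

namespace Cfsg.Agent.InvolCentGLTwoThree

open Cfsg Cfsg.Agent
open scoped Classical

universe u

variable {G : Type u} [Group G] [Fintype G] {t : G} {f : M ≃* Subgroup.centralizer ({t} : Set G)}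

/-- The homomorphism of the model into the group. -/
noncomputable def emb' (f : M ≃* Subgroup.centralizer ({t} : Set G)) : M →* G :=
  (Subgroup.centralizer ({t} : Set G)).subtype.comp f.toMonoidHom

theorem emb'_injective : Function.Injective (emb' f) := fun _ _ h => f.injective (Subtype.ext h)

theorem emb'_apply (u : M) : emb' f u = ((f u : Subgroup.centralizer ({t} : Set G)) : G) := rfl

theorem exists_emb'_eq {x : G} (hx : Commute x t) : ∃ u : M, emb' f u = x := by
  obtain ⟨u, hu⟩ := f.surjective ⟨x, Subgroup.mem_centralizer_singleton_iff.2 hx.eq⟩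
  exact ⟨u, congrArg Subtype.val hu⟩

theorem commute_emb' (u : M) : Commute (emb' f u) t :=
  Subgroup.mem_centralizer_singleton_iff.1 (f u).2

theorem map_z_eq (ht : orderOf t = 2) : emb' f z = t := by
  obtain ⟨u, hu⟩ := exists_emb'_eq (f := f) (Commute.refl t)
  have := z_unique u (fun v => emb'_injective (f := f) (by rw [map_mul, map_mul, hu]; exact (commute_emb' v).eq.symm))
    (emb'_injective (f := f) (by rw [map_mul, hu, map_one, ← pow_two, ← ht, pow_orderOf_eq_one]))
    (fun h => by rw [h, map_one] at hu; rw [← hu, orderOf_one] at ht; omega)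
  rw [← this, hu]

theorem isConj_of_involution (htz : emb' f z = t) (hs : IsConj t (emb' f s₀)) : Setup t f :=
  ⟨htz, fun u hu2 hu1 => by
    rcases involutions u hu2 hu1 with rfl | ⟨a, rfl⟩
    · rw [← emb'_apply, htz]
    · refine hs.trans (isConj_iff.2 ⟨emb' f a, ?_⟩)
      rw [← emb'_apply, map_mul, map_mul, map_inv]⟩

theorem exists_sylow (hS : Setup t f) : ∃ P : Sylow 2 G, (P : Subgroup G) = subS.map (emb' f) := by
  haveI : Fact (Nat.Prime 2) := ⟨Nat.prime_two⟩
  obtain ⟨k, hk⟩ : 48 ∣ Nat.card G := card_centralizer f ▸ Subgroup.card_subgroup_dvd_card _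
  have hodd : ¬ 2 ∣ 3 * k := by
    have := odd_quotient_order hS hk
    rw [Nat.odd_iff] at this
    omega
  refine ⟨Sylow.ofCard (subS.map (emb' f)) ?_, rfl⟩
  rw [Subgroup.card_map_of_injective emb'_injective, cards.1, hk, show 48 * k = 2 ^ 4 * (3 * k) by ring,
    Nat.factorization_mul (by norm_num) (by omega), Finsupp.add_apply, Nat.prime_two.factorization_pow,
    Finsupp.single_eq_same, Nat.factorization_eq_zero_of_not_dvd hodd]
  norm_num

/-- All involutions are conjugate. -/
theorem all_conj (hS : Setup t f) {k : G} (hk : k * k = 1) (hk1 : k ≠ 1) : IsConj t k := by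
  haveI : Fact (Nat.Prime 2) := ⟨Nat.prime_two⟩
  obtain ⟨P, hP⟩ := exists_sylow hS
  have hord : orderOf k = 2 := orderOf_eq_prime (by rw [pow_two, hk]) hk1
  obtain ⟨Q, hQ⟩ := (IsPGroup.of_card (G := Subgroup.zpowers k) (p := 2) (n := 1)
    (by rw [Nat.card_zpowers, hord, pow_one])).exists_le_sylow
  obtain ⟨g, hg⟩ := MulAction.exists_smul_eq G Q P
  have hmem : g * k * g⁻¹ ∈ (P : Subgroup G) := by
    rw [← hg, Sylow.coe_subgroup_smul]
    exact Subgroup.mem_pointwise_smul_iff_inv_smul_mem.mpr (by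
      simpa [MulAut.smul_def, mul_assoc] using hQ (Subgroup.mem_zpowers k))
  rw [hP] at hmem
  obtain ⟨u, -, hu⟩ := hmem
  refine (hS.isConj u (emb'_injective (f := f) ?_) fun h => hk1 ?_).trans (isConj_iff.2 ⟨g⁻¹, ?_⟩)
  · rw [map_mul, hu, map_one, show g * k * g⁻¹ * (g * k * g⁻¹) = g * (k * k) * g⁻¹ by group, hk]
    group
  · rw [h, map_one] at hu
    calc k = g⁻¹ * (g * k * g⁻¹) * g := by group
      _ = 1 := by rw [← hu]; group
  · rw [← emb'_apply, hu]; group

theorem normalizer_le (hS : Setup t f) :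
    Subgroup.normalizer ((subS.map (emb' f) : Subgroup G) : Set G) ≤ Subgroup.centralizer ({t} : Set G) := by
  have htz : emb' f z = t := hS.tz
  obtain ⟨-, -, -, hz2, hz1⟩ := s₀_facts
  have huniq : ∀ u : M, (u * w = w * u ∨ u * w = w * w * w * u) →
      (∀ v : M, (v * w = w * v ∨ v * w = w * w * w * v) → u * v = v * u) → u * u = 1 → u ≠ 1 → u = z := by
    decide +kernel
  intro g hg
  rw [Subgroup.mem_normalizer_iff] at hg
  obtain ⟨u, hu, hue⟩ := (hg t).1 ⟨z, Or.inl (z_comm w).symm, htz⟩
  have := huniq u hu (fun v hv => emb'_injective (f := f) (by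
    obtain ⟨v', hv', hve⟩ := (hg (g⁻¹ * emb' f v * g)).2 ⟨v, hv, by group⟩
    rw [map_mul, map_mul, hue, show emb' f v = g * emb' f v' * g⁻¹ by rw [hve]; group]
    calc g * t * g⁻¹ * (g * emb' f v' * g⁻¹) = g * (t * emb' f v') * g⁻¹ := by group
      _ = g * (emb' f v' * t) * g⁻¹ := by rw [(commute_emb' v').eq]
      _ = g * emb' f v' * g⁻¹ * (g * t * g⁻¹) := by group))
    (emb'_injective (f := f) (by
      rw [map_mul, hue, map_one, ← htz,
        show g * emb' f z * g⁻¹ * (g * emb' f z * g⁻¹) = g * emb' f (z * z) * g⁻¹ by rw [map_mul]; group,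
        hz2, map_one]
      group))
    (fun h => hz1 (emb'_injective (f := f) (by
      rw [h, map_one] at hue
      rw [htz, map_one]
      calc t = g⁻¹ * (g * t * g⁻¹) * g := by group
        _ = 1 := by rw [← hue]; group)))
  rw [this, htz] at hue
  rw [Subgroup.mem_centralizer_singleton_iff]
  calc g * t = g * t * g⁻¹ * g := by group
    _ = t * g := by rw [← hue]

theorem three_involutions : ∀ h : M, ∃ a : M, a * a = 1 ∧ ∃ b : M, b * b = 1 ∧ ∃ c : M, c * c = 1 ∧
    a * b * c = h := by decide +kernel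

theorem no_odd_fixed : ∀ u : M, u * u * u = 1 → (∀ v : M, (v * u * v⁻¹) * u = u * (v * u * v⁻¹)) → u = 1 := by
  decide +kernel

theorem sgn_mul' : ∀ u : M, sgn u * sgn u = 1 := by decide +kernel

/-- **Reduction.** -/
theorem isSimpleGroup_of_pResidual (hres : pResidual 2 G = ⊤) {t : G} (ht : orderOf t = 2)
    (e : Subgroup.centralizer ({t} : Set G) ≃* Matrix.GeneralLinearGroup (Fin 2) (ZMod 3)) :
    IsSimpleGroup G ∧ Setup t (toGL.trans e.symm) := by
  set f : M ≃* Subgroup.centralizer ({t} : Set G) := toGL.trans e.symm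
  haveI : Fact (Nat.Prime 2) := ⟨Nat.prime_two⟩
  have htz : emb' f z = t := map_z_eq ht
  have ht2 : t * t = 1 := by rw [← pow_two, ← ht, pow_orderOf_eq_one]
  have ht1 : t ≠ 1 := fun h => by rw [h, orderOf_one] at ht; omega
  have hti : t⁻¹ = t := inv_eq_of_mul_eq_one_right ht2
  set O := oddCore G
  have hOn : O.Normal := PCore.oddCore_normal
  have hOodd : Odd (Nat.card O) := PCore.odd_card_oddCore
  -- the centraliser meets the odd core trivially
  have hCO : ∀ x ∈ O, Commute x t → x = 1 := by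
    intro x hx hc
    have hp : ∀ y : G, y ∈ O → Commute y t → y ^ 3 = 1 := by
      intro y hy hyc
      have hd : orderOf y ∣ 48 := by
        rw [← card_centralizer f, ← Subgroup.orderOf_mk y (Subgroup.mem_centralizer_singleton_iff.2 hyc.eq)]
        exact orderOf_dvd_natCard _
      have ho : Odd (orderOf y) := by
        rw [← Subgroup.orderOf_mk y hy]
        exact hOodd.of_dvd_nat (orderOf_dvd_natCard _)
      refine orderOf_dvd_iff_pow_eq_one.1 (Nat.Coprime.dvd_of_dvd_mul_left ?_ (show orderOf y ∣ 16 * 3 from hd))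
      exact (Nat.Coprime.pow_right 4 (Nat.coprime_two_right.2 ho))
    obtain ⟨u, hu⟩ := exists_emb'_eq (f := f) hc
    rw [← hu, no_odd_fixed u ?_ fun v => ?_, map_one]
    · apply emb'_injective (f := f)
      rw [map_mul, map_mul, hu, map_one, ← hp x hx hc]
      simp [pow_succ]
    · have hy : emb' f (v * u * v⁻¹) ∈ O := by
        rw [map_mul, map_mul, map_inv, hu]; exact hOn.conj_mem x hx _
      apply emb'_injective (f := f)
      let φ : O →* O := (MulAut.conjNormal t : MulAut O).toMonoidHom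
      by_contra hne
      rw [map_mul, map_mul] at hne
      have h1 := hp _ (mul_mem hy (hu ▸ hx : emb' f u ∈ O)) ((commute_emb' (v * u * v⁻¹)).mul_left (commute_emb' u))
      rw [← map_mul, ← map_pow] at h1
      have h2 : ∀ a b : M, a * a * a = 1 → b * b * b = 1 → (a * b) ^ 3 = 1 → a * b = b * a := by
        decide +kernel
      refine hne ?_
      rw [← map_mul, ← map_mul, h2 _ _ ?_ ?_ (emb'_injective (f := f) (by rw [h1, map_one]))]
      · apply emb'_injective (f := f)
        rw [map_mul, map_mul, map_one, ← hp _ hy (commute_emb' _)]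
        simp [pow_succ]
      · apply emb'_injective (f := f)
        rw [map_mul, map_mul, map_one, hu, ← hp x hx hc]
        simp [pow_succ]
  have hconjmem : ∀ g : G, ∀ x ∈ O, g * x * g⁻¹ ∈ O := fun g x hx => hOn.conj_mem x hx g
  -- hence `t` inverts it
  have hinv : ∀ x ∈ O, t * x * t = x⁻¹ := by
    set φ : O →* O := (MulAut.conjNormal t : MulAut O).toMonoidHom
    have hφ : ∀ x : O, ((φ x : O) : G) = t * x * t⁻¹ := fun x => MulAut.conjNormal_apply t x
    have hfpf : MonoidHom.FixedPointFree φ := fun x hx => Subtype.ext (hCO x x.2 (by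
      have := congrArg Subtype.val hx
      rw [hφ, mul_inv_eq_iff_eq_mul] at this
      exact this.symm))
    have hinvol : Function.Involutive φ := fun x => Subtype.ext (by
      rw [hφ, hφ, hti, ← mul_assoc, ← mul_assoc, ht2, one_mul, mul_assoc, ht2, mul_one])
    intro x hx
    have := congrArg Subtype.val (congrFun (MonoidHom.FixedPointFree.coe_eq_inv_of_involutive hfpf hinvol) ⟨x, hx⟩)
    rw [hφ, hti] at this
    exact this
  have hs : IsConj t (emb' f s₀) := by
    by_contra hne
    have hiso : IsIsolatedInvolution t := by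
      refine ⟨ht, fun g hg => ?_⟩
      by_contra hgt
      obtain ⟨u, hu⟩ := exists_emb'_eq (f := f) hg.symm
      rcases involutions u (emb'_injective (f := f) (by
        rw [map_mul, hu, map_one, show g * t * g⁻¹ * (g * t * g⁻¹) = g * (t * t) * g⁻¹ by group, ht2]
        group)) (fun h => ht1 (by
          rw [h, map_one] at hu
          calc t = g⁻¹ * (g * t * g⁻¹) * g := by group
            _ = 1 := by rw [← hu]; group)) with rfl | ⟨a, ha⟩
      · exact hgt (by rw [← hu, htz])
      · refine hne (isConj_iff.2 ⟨(emb' f a)⁻¹ * g, ?_⟩)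
        rw [show (emb' f a)⁻¹ * g * t * ((emb' f a)⁻¹ * g)⁻¹ = (emb' f a)⁻¹ * (g * t * g⁻¹) * emb' f a by group,
          ← hu, ← ha, map_mul, map_mul, map_inv]
        group
    have hz' : InZStar 2 t := ZStar.inZStar hiso
    have hsur : Function.Surjective ((QuotientGroup.mk' O).comp (emb' f)) := by
      intro q
      obtain ⟨g, rfl⟩ := QuotientGroup.mk_surjective q
      have hx : g * t * g⁻¹ * t⁻¹ ∈ O := hz' g
      set x := g * t * g⁻¹ * t⁻¹ with hxdef
      obtain ⟨y, hy, hy2⟩ : ∃ y ∈ O, y * y = x := by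
        obtain ⟨r, hr⟩ := hOodd
        refine ⟨x ^ (r + 1), pow_mem hx _, ?_⟩
        rw [← pow_add, show r + 1 + (r + 1) = 2 * r + 1 + 1 by ring, pow_succ]
        have : x ^ (2 * r + 1) = 1 := by
          rw [← hr]
          exact congrArg Subtype.val (pow_card_eq_one' (x := (⟨x, hx⟩ : O)))
        rw [this, one_mul]
      have hty : t * y = y⁻¹ * t := by
        rw [← hinv y hy, mul_assoc, mul_assoc, ht2, mul_one]
      obtain ⟨u, hu⟩ := exists_emb'_eq (f := f) (x := y⁻¹ * g) (by
        show y⁻¹ * g * t = t * (y⁻¹ * g)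
        have h1 : t * y⁻¹ = y * t := by
          calc t * y⁻¹ = t * (t * y * t) := by rw [hinv y hy]
            _ = y * t := by rw [← mul_assoc, ← mul_assoc, ht2, one_mul]
        calc y⁻¹ * g * t = y⁻¹ * (x * t * g) := by rw [hxdef]; group
          _ = y * t * g := by rw [← hy2]; group
          _ = t * (y⁻¹ * g) := by rw [← h1, mul_assoc])
      refine ⟨u, ?_⟩
      rw [MonoidHom.comp_apply, hu]
      show ((y⁻¹ * g : G) : G ⧸ O) = (g : G ⧸ O)
      rw [QuotientGroup.eq]
      simpa [mul_assoc] using hOn.conj_mem y hy g⁻¹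
    have hinj : Function.Injective ((QuotientGroup.mk' O).comp (emb' f)) := by
      rw [injective_iff_map_eq_one]
      intro u hu
      exact emb'_injective (f := f) (by
        rw [hCO _ ((QuotientGroup.eq_one_iff _).1 hu) (commute_emb' u), map_one])
    set ψ : G →* M := ((MulEquiv.ofBijective _ ⟨hinj, hsur⟩).symm.toMonoidHom).comp (QuotientGroup.mk' O)
    let σ : G →* ℤ :=
      { toFun := fun g => sgn (ψ g)
        map_one' := by rw [map_one]; decide
        map_mul' := fun a b => by rw [map_mul, sgn_mul] }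
    have hle : ∀ g ∈ pResidual 2 G, σ g = 1 := by
      intro g hg
      refine Subgroup.closure_induction (fun y hy => ?_) (map_one σ)
        (fun a b _ _ ha hb => by rw [map_mul, ha, hb, one_mul]) (fun a _ ha => ?_) hg
      · obtain ⟨r, hr⟩ := Nat.coprime_two_right.1 hy
        have h1 : σ y ^ orderOf y = 1 := by rw [← map_pow, pow_orderOf_eq_one, map_one]
        have h2 : σ y * σ y = 1 := sgn_mul' _
        rw [hr, pow_succ, pow_mul, pow_two, h2, one_pow, one_mul] at h1
        exact h1
      · have := map_mul σ a⁻¹ a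
        rw [inv_mul_cancel, map_one, ha, mul_one] at this
        exact this.symm
    have hsg : σ (emb' f s₀) = 1 := hle _ (hres ▸ Subgroup.mem_top _)
    have : ψ (emb' f s₀) = s₀ := (MulEquiv.ofBijective _ ⟨hinj, hsur⟩).symm_apply_apply s₀
    have h2 : sgn s₀ ≠ 1 := by decide
    exact h2 (by rw [← this]; exact hsg)
  have hS : Setup t f := isConj_of_involution htz hs
  -- the odd core is trivial
  have hO : O = ⊥ := by
    have hinv' : ∀ u : M, u * u = 1 → u ≠ 1 → ∀ x ∈ O, emb' f u * x * emb' f u = x⁻¹ := by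
      intro u h2 h1 x hx
      obtain ⟨g, hg⟩ := isConj_iff.1 (hS.isConj u h2 h1)
      rw [← emb'_apply] at hg
      have := hinv _ (hconjmem g⁻¹ x hx)
      have hgi : g * t * g⁻¹ = (g * t⁻¹ * g⁻¹) := by rw [hti]
      calc emb' f u * x * emb' f u = g * (t * (g⁻¹ * x * g⁻¹⁻¹) * t) * g⁻¹ := by rw [← hg]; group
        _ = x⁻¹ := by rw [this]; group
    have d : ∀ a : M, a = z ∨ a = s₀ ∨ a = z * s₀ → a * a = 1 ∧ a ≠ 1 := by decide +kernel
    rw [Subgroup.eq_bot_iff_forall]
    intro x hx
    have e1 := hinv' z (d z (Or.inl rfl)).1 (d z (Or.inl rfl)).2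
    have e2 := hinv' s₀ (d s₀ (Or.inr (Or.inl rfl))).1 (d s₀ (Or.inr (Or.inl rfl))).2
    have e3 := hinv' (z * s₀) (d _ (Or.inr (Or.inr rfl))).1 (d _ (Or.inr (Or.inr rfl))).2 x hx
    have hzs : z * s₀ = s₀ * z := (z_comm s₀).symm
    have h4 : x = x⁻¹ := by
      calc x = emb' f z * (emb' f z * x * emb' f z) * emb' f z := by
            rw [htz]; simp only [← mul_assoc, ht2, one_mul]; rw [mul_assoc, ht2, mul_one]
        _ = emb' f z * x⁻¹ * emb' f z := by rw [e1 x hx]
        _ = emb' f z * (emb' f s₀ * x * emb' f s₀) * emb' f z := by rw [e2 x hx]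
        _ = emb' f (z * s₀) * x * emb' f (s₀ * z) := by rw [map_mul, map_mul]; group
        _ = x⁻¹ := by rw [← hzs]; exact e3
    have : orderOf (⟨x, hx⟩ : O) ∣ 2 := orderOf_dvd_of_pow_eq_one (Subtype.ext (by
      show x ^ 2 = 1
      rw [pow_two]; nth_rewrite 2 [h4]; exact mul_inv_cancel x))
    rcases (Nat.dvd_prime Nat.prime_two).1 this with h | h
    · exact congrArg Subtype.val (orderOf_eq_one_iff.1 h)
    · have h' := hOodd.of_dvd_nat (orderOf_dvd_natCard (⟨x, hx⟩ : O))
      rw [h] at h'
      exact absurd h' (by decide)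
  haveI : Nontrivial G := ⟨⟨t, 1, ht1⟩⟩
  refine ⟨⟨fun N hN => ?_⟩, hS⟩
  by_contra hne
  obtain ⟨hne1, hne2⟩ : N ≠ ⊥ ∧ N ≠ ⊤ := by tauto
  have heven : 2 ∣ Nat.card N := by
    by_contra hodd
    refine hne1 (le_bot_iff.1 ?_)
    rw [← hO]
    haveI := hN
    exact PCore.le_oddCore (Nat.odd_iff.2 (by omega))
  obtain ⟨⟨k, hkN⟩, hk⟩ := exists_prime_orderOf_dvd_card' 2 heven
  have hk' : k * k = 1 := by
    have := pow_orderOf_eq_one (⟨k, hkN⟩ : N)
    rw [hk, pow_two] at this
    exact congrArg Subtype.val this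
  have hk1 : k ≠ 1 := fun h => by
    subst h
    rw [show (⟨1, hkN⟩ : N) = 1 from rfl, orderOf_one] at hk
    omega
  have hinvN : ∀ u : M, u * u = 1 → emb' f u ∈ N := by
    intro u h2
    by_cases h1 : u = 1
    · rw [h1, map_one]; exact one_mem N
    · obtain ⟨g, hg⟩ := isConj_iff.1 ((all_conj hS hk' hk1).symm.trans (hS.isConj u h2 h1))
      rw [← emb'_apply] at hg
      rw [← hg]
      exact hN.conj_mem k hkN g
  have hle : Subgroup.centralizer ({t} : Set G) ≤ N := by
    intro x hx
    obtain ⟨u, rfl⟩ := exists_emb'_eq (f := f) (Subgroup.mem_centralizer_singleton_iff.1 hx)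
    obtain ⟨a, ha, b, hb, c, hc, rfl⟩ := three_involutions u
    rw [map_mul, map_mul]
    exact mul_mem (mul_mem (hinvN a ha) (hinvN b hb)) (hinvN c hc)
  obtain ⟨P, hP⟩ := exists_sylow hS
  have hPN : (P : Subgroup G) ≤ N := by
    rw [hP]
    rintro _ ⟨u, -, rfl⟩
    exact hle (f u).2
  have htop := Sylow.normalizer_sup_eq_top' (P := P) hPN
  refine hne2 (top_le_iff.1 ?_)
  rw [← htop]
  have h' := normalizer_le hS
  rw [← hP] at h'
  exact sup_le (h'.trans hle) le_rfl

end Cfsg.Agent.InvolCentGLTwoThree
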