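import Cfsg.Agent.Lib.InvolCentGLTwoThree.Reduction
import Cfsg.Agent.Lib.SmallSimple.Tools
import Mathlib.GroupTheory.FixedPointFree
import Mathlib.GroupTheory.PGroup

/-!
# Elements of order three centralised by involutions, when the order is 5616
-/

set_option autoImplicit false
set_option linter.style.haveILetI false
set_option linter.unusedSectionVars false

namespace Cfsg.Agent.InvolCentGLTwoThree

open Cfsg Cfsg.Agent
open scoped Classical

universe u

/-- The upper transvection. -/
def uu : M := ⟨1, 1, 0, 1, by decide⟩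

/-- The lower transvection. -/
def ll : M := ⟨1, 0, 1, 1, by decide⟩

theorem uu_ll_facts : uu * uu * uu = 1 ∧ uu ≠ 1 ∧ ll * ll * ll = 1 ∧ ll ≠ 1 ∧ s₀ * uu * s₀ = uu⁻¹ ∧
    s₀ * ll * s₀ = ll⁻¹ ∧ uu * ll * (uu * ll) = z ∧ ll * uu * (ll * uu) = z ∧
    (uu * ll⁻¹ * uu) * uu * (uu * ll⁻¹ * uu)⁻¹ = ll⁻¹ := by decide +kernel

theorem m_roots : ∀ x y r : M, x * x * x = 1 → x ≠ 1 → s₀ * x * s₀ = x⁻¹ → y * y * y = 1 → y ≠ 1 →
    s₀ * y * s₀ = y⁻¹ → r * r * r = 1 → r ≠ 1 → s₀ * r * s₀ = r⁻¹ →
    r = x ∨ r = x * x ∨ r = y ∨ r = y * y ∨ y = x ∨ y = x * x := by decide +kernel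

theorem m_conj : ∀ x : M, x * x * x = 1 → x ≠ 1 → ∃ m : M, m * uu * m⁻¹ = x := by decide +kernel

theorem m_comm : ∀ x y : M, x * x * x = 1 → y * y * y = 1 → x ≠ 1 →
    x * y * (x * y) * (x * y) = 1 → y = 1 ∨ y = x ∨ y = x * x := by decide +kernel

theorem m_cent : Fintype.card {v : M // v * uu = uu * v} = 6 := by decide +kernel

theorem m_frame : ∀ u : M, u * u = 1 → u ≠ 1 → u ≠ z → ∃ m : M, m * s₀ * m⁻¹ = u := by decide +kernel

theorem eq_one_of_inv_eq {G : Type*} [Group G] {x : G} (h3 : x * x * x = 1) (h : x = x⁻¹) : x = 1 := by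
  have h2 : x * x = 1 := by nth_rewrite 2 [h]; exact mul_inv_cancel x
  rwa [h2, one_mul] at h3

variable {G : Type u} [Group G] [Fintype G] [IsSimpleGroup G] {t : G}
  {f : M ≃* Subgroup.centralizer ({t} : Set G)}

/-- A frame: two commuting involutions. -/
structure Frame (k k' : G) : Prop where
  sq : k * k = 1
  ne : k ≠ 1
  sq' : k' * k' = 1
  ne' : k' ≠ 1
  comm : Commute k k'
  diff : k ≠ k'

theorem Frame.symm {k k' : G} (h : Frame k k') : Frame k' k :=
  ⟨h.sq', h.ne', h.sq, h.ne, h.comm.symm, h.diff.symm⟩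

theorem Frame.mul {k k' : G} (h : Frame k k') : Frame k (k * k') := by
  refine ⟨h.sq, h.ne, ?_, ?_, (Commute.refl k).mul_right h.comm, ?_⟩
  · rw [h.comm.symm.mul_mul_mul_comm, h.sq, h.sq', one_mul]
  · intro e
    refine h.diff ?_
    calc k = k * (k * k') := by rw [e, mul_one]
      _ = k' := by rw [← mul_assoc, h.sq, one_mul]
  · intro e
    exact h.ne' (mul_left_cancel (e.symm.trans (mul_one k).symm))

/-- A root of a frame. -/
structure Root (k k' x : G) : Prop where
  cube : x * x * x = 1
  ne : x ≠ 1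
  comm : Commute x k
  invert : k' * x * k' = x⁻¹

theorem Root.other {k k' x : G} (hk : Frame k k') (h : Root k k' x) : Root k (k * k') x :=
  ⟨h.cube, h.ne, h.comm, by
    calc k * k' * x * (k * k') = k * k' * x * (k' * k) := congrArg (k * k' * x * ·) hk.comm.eq
      _ = k * (k' * x * k') * k := by group
      _ = x⁻¹ := by rw [h.invert, h.comm.inv_left.symm.eq, mul_assoc, hk.sq, mul_one]⟩

theorem Root.sq {k k' x : G} (hk : k' * k' = 1) (h : Root k k' x) : Root k k' (x * x) :=
  ⟨by calc x * x * (x * x) * (x * x) = (x * x * x) * (x * x * x) := by group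
        _ = 1 := by rw [h.cube, one_mul],
    fun e => h.ne (by have := h.cube; rwa [e, one_mul] at this),
    h.comm.mul_left h.comm, by
      calc k' * (x * x) * k' = k' * x * (k' * k') * x * k' := by rw [hk]; group
        _ = (k' * x * k') * (k' * x * k') := by group
        _ = (x * x)⁻¹ := by rw [h.invert, mul_inv_rev]⟩

theorem exists_chart (hS : Setup t f) {k k' : G} (hk : Frame k k') :
    ∃ g : M →* G, Function.Injective g ∧ g z = k ∧ g s₀ = k' ∧ ∀ x, Commute x k → ∃ u, g u = x := by
  obtain ⟨a, ha⟩ := isConj_iff.1 (all_conj hS hk.sq hk.ne)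
  let g₀ : M →* G := (MulAut.conj a).toMonoidHom.comp (emb' f)
  have hg₀ : Function.Injective g₀ := (MulAut.conj a).injective.comp emb'_injective
  have hz : g₀ z = k := by
    show a * emb' f z * a⁻¹ = k
    rw [show emb' f z = t from hS.tz, ha]
  have hsur : ∀ x, Commute x k → ∃ u, g₀ u = x := by
    intro x hx
    obtain ⟨u, hu⟩ := exists_emb'_eq (f := f) (x := a⁻¹ * x * a) (by
      show a⁻¹ * x * a * t = t * (a⁻¹ * x * a)
      calc a⁻¹ * x * a * t = a⁻¹ * (x * k) * a := by rw [← ha]; group
        _ = a⁻¹ * (k * x) * a := by rw [hx.eq]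
        _ = t * (a⁻¹ * x * a) := by rw [← ha]; group)
    exact ⟨u, by show a * emb' f u * a⁻¹ = x; rw [hu]; group⟩
  obtain ⟨u, hu⟩ := hsur k' hk.comm.symm
  obtain ⟨m, hm⟩ := m_frame u (hg₀ (by rw [map_mul, hu, hk.sq', map_one]))
    (fun h => hk.ne' (by rw [← hu, h, map_one])) (fun h => hk.diff (by rw [← hu, h, hz]))
  refine ⟨g₀.comp (MulAut.conj m).toMonoidHom, hg₀.comp (MulAut.conj m).injective, ?_, ?_, fun x hx => ?_⟩
  · show g₀ (m * z * m⁻¹) = k
    rw [z_comm m, mul_inv_cancel_right, hz]
  · show g₀ (m * s₀ * m⁻¹) = k'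
    rw [hm, hu]
  · obtain ⟨v, hv⟩ := hsur x hx
    exact ⟨m⁻¹ * v * m, by show g₀ (m * (m⁻¹ * v * m) * m⁻¹) = x; rw [← hv]; congr 1; group⟩

/-- Roots of a frame form two cyclic groups. -/
theorem roots_cases (hS : Setup t f) {k k' x y r : G} (hk : Frame k k') (hx : Root k k' x) (hy : Root k k' y)
    (hr : Root k k' r) : r = x ∨ r = x * x ∨ r = y ∨ r = y * y ∨ y = x ∨ y = x * x := by
  obtain ⟨g, hg, hz, hs, hsur⟩ := exists_chart hS hk
  obtain ⟨a, rfl⟩ := hsur x hx.comm
  obtain ⟨b, rfl⟩ := hsur y hy.comm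
  obtain ⟨c, rfl⟩ := hsur r hr.comm
  have h : ∀ v, Root k k' (g v) → v * v * v = 1 ∧ v ≠ 1 ∧ s₀ * v * s₀ = v⁻¹ := fun v hv =>
    ⟨hg (by rw [map_mul, map_mul, hv.cube, map_one]), fun e => hv.ne (by rw [e, map_one]),
      hg (by rw [map_mul, map_mul, map_inv, hs, hv.invert])⟩
  rcases m_roots a b c (h a hx).1 (h a hx).2.1 (h a hx).2.2 (h b hy).1 (h b hy).2.1 (h b hy).2.2 (h c hr).1
    (h c hr).2.1 (h c hr).2.2 with e | e | e | e | e | e <;> simp [e]

theorem exists_conj_uu (hS : Setup t f) {k x : G} (hk : k * k = 1) (hk1 : k ≠ 1) (hx : x * x * x = 1) (hx1 : x ≠ 1)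
    (hc : Commute x k) : IsConj (emb' f uu) x := by
  obtain ⟨a, ha⟩ := isConj_iff.1 (all_conj hS hk hk1)
  obtain ⟨u, hu⟩ := exists_emb'_eq (f := f) (x := a⁻¹ * x * a) (by
    show a⁻¹ * x * a * t = t * (a⁻¹ * x * a)
    calc a⁻¹ * x * a * t = a⁻¹ * (x * k) * a := by rw [← ha]; group
      _ = a⁻¹ * (k * x) * a := by rw [hc.eq]
      _ = t * (a⁻¹ * x * a) := by rw [← ha]; group)
  obtain ⟨m, hm⟩ := m_conj u
    (emb'_injective (f := f) (by
      rw [map_mul, map_mul, hu, map_one, show a⁻¹ * x * a * (a⁻¹ * x * a) * (a⁻¹ * x * a) =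
        a⁻¹ * (x * x * x) * a by group, hx]
      group))
    (fun e => hx1 (by
      rw [e, map_one] at hu
      calc x = a * (a⁻¹ * x * a) * a⁻¹ := by group
        _ = 1 := by rw [← hu]; group))
  refine isConj_iff.2 ⟨a * emb' f m, ?_⟩
  calc a * emb' f m * emb' f uu * (a * emb' f m)⁻¹ = a * emb' f (m * uu * m⁻¹) * a⁻¹ := by
        rw [map_mul, map_mul, map_inv]; group
    _ = x := by rw [hm, hu]; group

theorem card_centralizer_conj {x y : G} (h : IsConj x y) :
    Nat.card (Subgroup.centralizer ({y} : Set G)) = Nat.card (Subgroup.centralizer ({x} : Set G)) := by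
  obtain ⟨g, rfl⟩ := isConj_iff.1 h
  refine Nat.card_congr ((MulAut.conj g⁻¹).toEquiv.subtypeEquiv fun a => ?_)
  rw [Subgroup.mem_centralizer_singleton_iff, Subgroup.mem_centralizer_singleton_iff]
  show _ ↔ g⁻¹ * a * g⁻¹⁻¹ * x = x * (g⁻¹ * a * g⁻¹⁻¹)
  constructor <;> intro h
  · calc g⁻¹ * a * g⁻¹⁻¹ * x = g⁻¹ * (a * (g * x * g⁻¹)) * g := by group
      _ = x * (g⁻¹ * a * g⁻¹⁻¹) := by rw [h]; group
  · calc a * (g * x * g⁻¹) = g * (g⁻¹ * a * g⁻¹⁻¹ * x) * g⁻¹ := by group
      _ = g * x * g⁻¹ * a := by rw [h]; group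

theorem not_comm (f : M ≃* Subgroup.centralizer ({t} : Set G)) : ¬ IsMulCommutative G := fun h => by
  have h' : ∃ a b : M, a * b ≠ b * a := by decide +kernel
  obtain ⟨a, b, hab⟩ := h'
  exact hab (emb'_injective (f := f) (by rw [map_mul, map_mul]; exact h.is_comm.comm _ _))

variable (hcard : Nat.card G = 5616)
include hcard

theorem centralizer_no_thirteen (f : M ≃* Subgroup.centralizer ({t} : Set G)) {y : G} (hy : orderOf y = 3) :
    ¬ 13 ∣ Nat.card (Subgroup.centralizer ({y} : Set G)) := by
  intro h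
  haveI : Fact (Nat.Prime 13) := ⟨by norm_num⟩
  have hG := not_comm f
  obtain ⟨⟨g, hgc⟩, hg⟩ := exists_prime_orderOf_dvd_card' 13 h
  rw [Subgroup.orderOf_mk] at hg
  have hc : Commute g y := Subgroup.mem_centralizer_singleton_iff.1 hgc
  let P : Sylow 13 G := Sylow.ofCard (Subgroup.zpowers g) (by
    rw [Nat.card_zpowers, hg, hcard, show (5616 : ℕ) = 13 ^ 1 * 432 by norm_num,
      Nat.factorization_mul (by norm_num) (by norm_num), Finsupp.add_apply,
      (by norm_num : (13 : ℕ).Prime).factorization_pow, Finsupp.single_eq_same,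
      Nat.factorization_eq_zero_of_not_dvd (by norm_num : ¬ 13 ∣ 432)]
    norm_num)
  have hP : (P : Subgroup G) = Subgroup.zpowers g := rfl
  set N := Subgroup.normalizer ((P : Subgroup G) : Set G)
  set C := Subgroup.centralizer ((P : Subgroup G) : Set G)
  have hCN : C ≤ N := Subgroup.centralizer_le_normalizer _
  have hmul : Nat.card N * Nat.card (Sylow 13 G) = 5616 := by
    rw [Sylow.card_eq_index_normalizer P]; exact (Subgroup.card_mul_index _).trans hcard
  have hmod : Nat.card (Sylow 13 G) % 13 = 1 := card_sylow_modEq_one 13 G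
  have h5 := SmallSimple.five_le_card_sylow hG (p := 13) (by rw [hcard]; norm_num)
  have hmem : g ∈ C ∧ y ∈ C := by
    constructor <;> rw [Subgroup.mem_centralizer_iff] <;> rintro v ⟨i, rfl⟩
    · exact ((Commute.refl g).zpow_left i).eq
    · exact (hc.zpow_left i).eq
  have h39 : 39 ∣ Nat.card C := by
    refine Nat.Coprime.mul_dvd_of_dvd_of_dvd (show Nat.Coprime 13 3 by norm_num) ?_ ?_
    · rw [← hg, ← Subgroup.orderOf_mk g hmem.1]; exact orderOf_dvd_natCard _
    · rw [← hy, ← Subgroup.orderOf_mk y hmem.2]; exact orderOf_dvd_natCard _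
  have hdiv : ∀ n ∈ Nat.divisors 5616, n % 13 = 1 → 5 ≤ n → n = 144 ∨ n = 27 := by decide +kernel
  have hCdvd := Subgroup.card_dvd_of_le hCN
  rcases hdiv _ (Nat.mem_divisors.2 ⟨hmul ▸ dvd_mul_left _ _, by norm_num⟩) hmod h5 with hn | hn <;>
    rw [hn] at hmul
  · have hN : Nat.card N = 39 := by omega
    have heq : C = N := Subgroup.eq_of_le_of_card_ge hCN (by
      rw [hN]; exact Nat.le_of_dvd Nat.card_pos h39)
    exact SmallSimple.not_hasNormalPComplement hG (p := 13) (by rw [hcard]; norm_num)
      (Transfer.hasNormalPComplement_of_normalizer_le_centralizer P heq.ge)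
  · have hN : Nat.card N = 208 := by omega
    have := h39.trans hCdvd
    rw [hN] at this
    norm_num at this

theorem card_centralizer_uu (hS : Setup t f) :
    Nat.card (Subgroup.centralizer ({emb' f uu} : Set G)) = 54 := by
  haveI : Fact (Nat.Prime 2) := ⟨Nat.prime_two⟩
  haveI : Fact (Nat.Prime 3) := ⟨Nat.prime_three⟩
  set a := emb' f uu with ha
  set C := Subgroup.centralizer ({a} : Set G) with hC
  have htz : emb' f z = t := hS.tz
  obtain ⟨u3, u1, -⟩ := uu_ll_facts
  have ha3 : a ^ 3 = 1 := by rw [ha, ← map_pow, pow_succ, pow_two, u3, map_one]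
  have ha3m : a * a * a = 1 := by rw [ha, ← map_mul, ← map_mul, u3, map_one]
  have ha1 : a ≠ 1 := fun e => u1 (emb'_injective (f := f) (by rw [← ha, e, map_one]))
  have hao : orderOf a = 3 := orderOf_eq_prime ha3 ha1
  have hat : Commute a t := commute_emb' uu
  have hCt : Nat.card ↥(C ⊓ Subgroup.centralizer ({t} : Set G)) = 6 := by
    have e : C ⊓ Subgroup.centralizer ({t} : Set G) = (Subgroup.centralizer ({uu} : Set M)).map (emb' f) := by
      ext x
      rw [Subgroup.mem_inf, hC, Subgroup.mem_centralizer_singleton_iff, Subgroup.mem_centralizer_singleton_iff,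
        Subgroup.mem_map]
      constructor
      · rintro ⟨h1, h2⟩
        obtain ⟨u, rfl⟩ := exists_emb'_eq (f := f) h2
        exact ⟨u, Subgroup.mem_centralizer_singleton_iff.2 (emb'_injective (f := f) (by rw [map_mul, map_mul]; exact h1)),
          rfl⟩
      · rintro ⟨u, hu, rfl⟩
        exact ⟨by rw [ha, ← map_mul, ← map_mul, Subgroup.mem_centralizer_singleton_iff.1 hu], (commute_emb' u).eq⟩
    rw [e, Subgroup.card_map_of_injective emb'_injective,
      Nat.card_congr (Equiv.subtypeEquivRight fun v =>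
        (Subgroup.mem_centralizer_singleton_iff : v ∈ Subgroup.centralizer ({uu} : Set M) ↔ v * uu = uu * v)),
      Nat.card_eq_fintype_card]
    exact m_cent
  have ht2 : t ∈ C := Subgroup.mem_centralizer_singleton_iff.2 hat.symm.eq
  have htord : orderOf t = 2 := by
    obtain ⟨-, -, -, hz2, hz1⟩ := s₀_facts
    exact orderOf_eq_prime (by rw [pow_two, ← htz, ← map_mul, hz2, map_one])
      fun e => hz1 (emb'_injective (f := f) ((htz.trans e).trans (map_one _).symm))
  have h4 : ¬ 4 ∣ Nat.card C := by
    intro h4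
    obtain ⟨K, hK, hle⟩ := Sylow.exists_subgroup_card_pow_succ (G := C) (p := 2) (n := 1) (by simpa using h4)
      (H := Subgroup.zpowers (⟨t, ht2⟩ : C)) (by rw [Nat.card_zpowers, Subgroup.orderOf_mk, htord, pow_one])
    haveI := IsPGroup.isMulCommutative_of_card_eq_prime_sq (p := 2) (G := K) hK
    have hsub : K.map C.subtype ≤ C ⊓ Subgroup.centralizer ({t} : Set G) := by
      rintro _ ⟨v, hv, rfl⟩
      refine ⟨v.2, Subgroup.mem_centralizer_singleton_iff.2 ?_⟩
      exact congrArg (fun w : K => ((w : C) : G))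
        (IsMulCommutative.is_comm.comm (⟨v, hv⟩ : K) ⟨⟨t, ht2⟩, hle (Subgroup.mem_zpowers _)⟩)
    have := Subgroup.card_dvd_of_le hsub
    rw [Subgroup.card_map_of_injective C.subtype_injective, hK, hCt] at this
    norm_num at this
  have h13 := centralizer_no_thirteen hcard f hao
  have hdiv : Nat.card C ∣ 5616 := hcard ▸ Subgroup.card_subgroup_dvd_card C
  have h6 : 6 ∣ Nat.card C := hCt ▸ Subgroup.card_dvd_of_le inf_le_left
  have hcases : ∀ n ∈ Nat.divisors 5616, ¬ 4 ∣ n → ¬ 13 ∣ n → 6 ∣ n → n = 6 ∨ n = 18 ∨ n = 54 := by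
    decide +kernel
  have hc := hcases _ (Nat.mem_divisors.2 ⟨hdiv, by norm_num⟩) h4 h13 h6
  -- a Sylow 3-subgroup through `a`
  obtain ⟨R₀, hR₀⟩ := (IsPGroup.of_card (G := Subgroup.zpowers a) (p := 3) (n := 1)
    (by rw [Nat.card_zpowers, hao, pow_one])).exists_le_sylow
  have hcardR : ∀ R : Sylow 3 G, Nat.card (R : Subgroup G) = 27 := fun R =>
    SmallSimple.card_sylow_subgroup (p := 3) (k := 3) (m := 208) (by rw [hcard]; norm_num) (by norm_num) R
  have hsylle : ∀ R : Sylow 3 G, (R : Subgroup G) ≤ C → 27 ∣ Nat.card C := fun R h =>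
    hcardR R ▸ Subgroup.card_dvd_of_le h
  have hcenter : ∀ R : Sylow 3 G, ∃ c : G, c ∈ (R : Subgroup G) ∧ c ≠ 1 ∧ c * c * c = 1 ∧
      ∀ r ∈ (R : Subgroup G), Commute r c := by
    intro R
    haveI : Nontrivial (R : Subgroup G) := Finite.one_lt_card_iff_nontrivial.1 (by rw [hcardR R]; norm_num)
    have hn := R.isPGroup'.center_nontrivial
    have hdvd : 3 ∣ Nat.card (Subgroup.center (R : Subgroup G)) := by
      obtain ⟨n, hn0, hn'⟩ := (R.isPGroup'.to_subgroup _).nontrivial_iff_card.1 hn
      rw [hn']; exact dvd_pow_self 3 hn0.ne'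
    obtain ⟨c, hc⟩ := exists_prime_orderOf_dvd_card' 3 hdvd
    refine ⟨((c : (R : Subgroup G)) : G), (c : (R : Subgroup G)).2, fun e => ?_, ?_, fun r hr => ?_⟩
    · have : c = 1 := Subtype.ext (Subtype.ext e)
      rw [this, orderOf_one] at hc; norm_num at hc
    · have h3 := pow_orderOf_eq_one c
      rw [hc, pow_succ, pow_two] at h3
      exact congrArg (fun q : Subgroup.center (R : Subgroup G) => ((q : (R : Subgroup G)) : G)) h3
    · exact congrArg Subtype.val (Subgroup.mem_center_iff.1 c.2 ⟨r, hr⟩)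
  rcases hc with hc | hc | hc
  · exfalso
    obtain ⟨c, hcR, hc1, hc3, hcc⟩ := hcenter R₀
    have haR : a ∈ (R₀ : Subgroup G) := hR₀ (Subgroup.mem_zpowers a)
    have hcC : c ∈ C := Subgroup.mem_centralizer_singleton_iff.2 (hcc a haR).symm.eq
    have h9 : 9 ∣ Nat.card C := by
      by_cases hin : c ∈ Subgroup.zpowers a
      · have : (R₀ : Subgroup G) ≤ C := by
          intro r hr
          obtain ⟨i, hi⟩ := (isOfFinOrder_of_finite a).mem_powers_iff_mem_zpowers.2 hin
          have hi' : a ^ (i % 3) = c := by rw [← hao, pow_mod_orderOf]; exact hi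
          refine Subgroup.mem_centralizer_singleton_iff.2 (Commute.eq ?_)
          have h := hcc r hr
          rw [← hi'] at h
          have hlt := Nat.mod_lt i (show 3 > 0 by norm_num)
          interval_cases hi3 : i % 3
          · exact absurd (by rw [← hi', pow_zero]) hc1
          · rwa [pow_one] at h
          · have ha' : a = a ^ 2 * a ^ 2 := by
              rw [← pow_add, show 2 + 2 = 3 + 1 by rfl, pow_succ, ha3, one_mul]
            rw [ha']
            exact h.mul_right h
        exact (show 9 ∣ 27 by norm_num).trans (hsylle R₀ this)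
      · have hle : Subgroup.zpowers a ⊔ Subgroup.zpowers c ≤ C :=
          sup_le (Subgroup.zpowers_le.2 (Subgroup.mem_centralizer_singleton_iff.2 rfl)) (Subgroup.zpowers_le.2 hcC)
        have hleR : Subgroup.zpowers a ⊔ Subgroup.zpowers c ≤ (R₀ : Subgroup G) :=
          sup_le hR₀ (Subgroup.zpowers_le.2 hcR)
        refine (?_ : 9 ∣ Nat.card ↥(Subgroup.zpowers a ⊔ Subgroup.zpowers c)).trans (Subgroup.card_dvd_of_le hle)
        obtain ⟨n, -, hn⟩ := (Nat.dvd_prime_pow Nat.prime_three).1
          (show Nat.card ↥(Subgroup.zpowers a ⊔ Subgroup.zpowers c) ∣ 3 ^ 3 from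
            by have := Subgroup.card_dvd_of_le hleR; rwa [hcardR R₀] at this)
        rcases Nat.lt_or_ge n 2 with hn2 | hn2
        · exfalso
          refine hin ?_
          have heq : Subgroup.zpowers a = Subgroup.zpowers a ⊔ Subgroup.zpowers c :=
            Subgroup.eq_of_le_of_card_ge le_sup_left (by
              rw [hn, Nat.card_zpowers, hao]
              interval_cases n <;> norm_num)
          rw [heq]; exact Subgroup.mem_sup_right (Subgroup.mem_zpowers c)
        · rw [hn]; exact (pow_dvd_pow 3 hn2 : 3 ^ 2 ∣ 3 ^ n)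
    omega
  · exfalso
    -- the case of a centraliser of order 18
    obtain ⟨O, hO, hOle⟩ := Sylow.exists_subgroup_card_pow_succ (G := C) (p := 3) (n := 1)
      (by rw [hc]; norm_num) (H := Subgroup.zpowers (⟨a, Subgroup.mem_centralizer_singleton_iff.2 rfl⟩ : C))
      (by rw [Nat.card_zpowers, Subgroup.orderOf_mk, hao, pow_one])
    have hOidx : O.index = 2 := by
      have := O.card_mul_index
      rw [hO, hc] at this
      omega
    haveI := Subgroup.normal_of_index_eq_two hOidx
    obtain ⟨R, hR⟩ := ((IsPGroup.of_card hO).map C.subtype).exists_le_sylow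
    have haR : a ∈ (R : Subgroup G) := hR ⟨_, hOle (Subgroup.mem_zpowers _), rfl⟩
    obtain ⟨c, hcR, hc1, hc3, hcc⟩ := hcenter R
    have hac : Commute a c := hcc a haR
    have hnoR : ¬ (R : Subgroup G) ≤ C := fun h => by
      have := hsylle R h
      omega
    have hnoZ : ∀ v : G, (∀ r ∈ (R : Subgroup G), Commute r v) → ¬ IsConj a v := by
      intro v hv h
      have hle : (R : Subgroup G) ≤ Subgroup.centralizer ({v} : Set G) := fun r hr =>
        Subgroup.mem_centralizer_singleton_iff.2 (hv r hr).eq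
      have := hcardR R ▸ Subgroup.card_dvd_of_le hle
      rw [card_centralizer_conj h, ← hC, hc] at this
      norm_num at this
    have hcno : ¬ IsConj a c := hnoZ c hcc
    have hca : c ≠ a ∧ c ≠ a * a := by
      refine ⟨fun e => hnoR fun r hr => Subgroup.mem_centralizer_singleton_iff.2 (e ▸ hcc r hr).eq, fun e =>
        hnoR fun r hr => Subgroup.mem_centralizer_singleton_iff.2 ?_⟩
      have h := (hcc r hr).mul_right (hcc r hr)
      rw [e, show a * a * (a * a) = a * a * a * a by group, ha3m, one_mul] at h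
      exact h.eq
    have hco : orderOf c = 3 := orderOf_eq_prime (by rw [pow_succ, pow_two, hc3]) hc1
    -- the centraliser of `c` is `R`
    have hCc : Subgroup.centralizer ({c} : Set G) = (R : Subgroup G) := by
      refine (Subgroup.eq_of_le_of_card_ge (fun r hr => Subgroup.mem_centralizer_singleton_iff.2 (hcc r hr).eq) ?_).symm
      have h13' := centralizer_no_thirteen hcard f hco
      have hd : Nat.card (Subgroup.centralizer ({c} : Set G)) ∣ 5616 := hcard ▸ Subgroup.card_subgroup_dvd_card _
      have h2 : ¬ 2 ∣ Nat.card (Subgroup.centralizer ({c} : Set G)) := by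
        intro h2
        obtain ⟨⟨k, hkc⟩, hk⟩ := exists_prime_orderOf_dvd_card' 2 h2
        rw [Subgroup.orderOf_mk] at hk
        exact hcno (exists_conj_uu hS (by rw [← pow_two, ← hk, pow_orderOf_eq_one])
          (fun e => by rw [e, orderOf_one] at hk; norm_num at hk) hc3 hc1
          (Subgroup.mem_centralizer_singleton_iff.1 hkc).symm)
      have hh : ∀ n ∈ Nat.divisors 5616, ¬ 13 ∣ n → ¬ 2 ∣ n → n ≤ 27 := by decide +kernel
      rw [hcardR R]
      exact hh _ (Nat.mem_divisors.2 ⟨hd, by norm_num⟩) h13' h2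
    -- `c` is not conjugate to its inverse
    have hreal : ∀ h : G, h * c * h⁻¹ ≠ c⁻¹ := by
      intro h hh
      set N := Subgroup.normalizer ((R : Subgroup G) : Set G)
      have hhN : h ∈ N := by
        have e : ∀ g : G, g * c * g⁻¹ = c⁻¹ → ∀ r, r ∈ (R : Subgroup G) → g * r * g⁻¹ ∈ (R : Subgroup G) := by
          intro g hg r hr
          rw [← hCc] at hr ⊢
          rw [Subgroup.mem_centralizer_singleton_iff] at hr ⊢
          have h1 : r * c⁻¹ = c⁻¹ * r := (Commute.inv_right hr).eq
          calc g * r * g⁻¹ * c = g * r * g⁻¹ * (g * c⁻¹ * g⁻¹) := by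
                rw [show g * c⁻¹ * g⁻¹ = (g * c * g⁻¹)⁻¹ by group, hg, inv_inv]
            _ = g * (r * c⁻¹) * g⁻¹ := by group
            _ = g * c⁻¹ * g⁻¹ * (g * r * g⁻¹) := by rw [h1]; group
            _ = c * (g * r * g⁻¹) := by rw [show g * c⁻¹ * g⁻¹ = (g * c * g⁻¹)⁻¹ by group, hg, inv_inv]
        rw [Subgroup.mem_normalizer_iff]
        refine fun r => ⟨e h hh r, fun hr => ?_⟩
        have := e h⁻¹ (by
          calc h⁻¹ * c * h⁻¹⁻¹ = h⁻¹ * (h * c * h⁻¹)⁻¹ * h := by rw [hh, inv_inv]; group
            _ = c⁻¹ := by group) _ hr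
        rwa [show h⁻¹ * (h * r * h⁻¹) * h⁻¹⁻¹ = r by group] at this
      -- the normaliser maps `c` to `c` or its inverse
      have hZ : ∀ v ∈ (R : Subgroup G), (∀ r ∈ (R : Subgroup G), Commute r v) → v ≠ 1 → v = c ∨ v = c * c := by
        intro v hv hvc hv1
        by_contra hne
        rw [not_or] at hne
        -- the centre would have order nine
        have hle : Subgroup.zpowers a ⊔ Subgroup.zpowers c ≤ (R : Subgroup G) :=
          sup_le (Subgroup.zpowers_le.2 haR) (Subgroup.zpowers_le.2 hcR)
        have hvC : v ∈ C := Subgroup.mem_centralizer_singleton_iff.2 (hvc a haR).symm.eq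
        set Z := Subgroup.center (R : Subgroup G)
        have hvZ : (⟨v, hv⟩ : (R : Subgroup G)) ∈ Z :=
          Subgroup.mem_center_iff.2 fun r => Subtype.ext (hvc r r.2).eq
        have hcZ : (⟨c, hcR⟩ : (R : Subgroup G)) ∈ Z :=
          Subgroup.mem_center_iff.2 fun r => Subtype.ext (hcc r r.2).eq
        have hZlt : Z ≠ ⊤ := fun e => hnoR fun r hr => Subgroup.mem_centralizer_singleton_iff.2
          (congrArg Subtype.val (Subgroup.mem_center_iff.1 (e ▸ Subgroup.mem_top (⟨a, haR⟩ : (R : Subgroup G)))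
            ⟨r, hr⟩))
        have hidx : 9 ∣ Z.index := by
          obtain ⟨n, hn⟩ := (R.isPGroup').exists_card_eq
          rw [hcardR R] at hn
          have hd : Z.index ∣ 3 ^ 3 := by
            have := Subgroup.index_dvd_card Z
            rwa [hcardR R] at this
          obtain ⟨m, hm, hm'⟩ := (Nat.dvd_prime_pow Nat.prime_three).1 hd
          rw [hm']
          by_contra hlt
          have : m ≤ 1 := by
            by_contra h2
            exact hlt (pow_dvd_pow 3 (show 2 ≤ m by omega))
          interval_cases m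
          · exact hZlt (Subgroup.index_eq_one.1 (by rw [hm']; rfl))
          · haveI : IsCyclic ((R : Subgroup G) ⧸ Z) :=
              isCyclic_of_prime_card (p := 3) (by rw [← Subgroup.index_eq_card, hm']; rfl)
            refine hZlt (eq_top_iff.2 fun r _ => Subgroup.mem_center_iff.2 fun s => ?_)
            exact commutative_of_cyclic_center_quotient (QuotientGroup.mk' Z) (by rw [QuotientGroup.ker_mk']) s r
        have hZcard : Nat.card Z ≤ 3 := by
          have := Z.card_mul_index
          rw [hcardR R] at this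
          obtain ⟨q, hq⟩ := hidx
          rw [hq] at this
          have : 0 < q := Nat.pos_of_ne_zero fun h0 => by rw [h0] at this; simp at this
          nlinarith
        have heq : Subgroup.zpowers (⟨c, hcR⟩ : (R : Subgroup G)) = Z :=
          Subgroup.eq_of_le_of_card_ge (Subgroup.zpowers_le.2 hcZ)
            (by rw [Nat.card_zpowers, Subgroup.orderOf_mk, hco]; exact hZcard)
        rw [← heq] at hvZ
        obtain ⟨i, hi⟩ := (isOfFinOrder_of_finite _).mem_powers_iff_mem_zpowers.2 hvZ
        have hi' : c ^ (i % 3) = v := by rw [← hco, pow_mod_orderOf]; exact congrArg Subtype.val hi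
        have := Nat.mod_lt i (show 3 > 0 by norm_num)
        interval_cases hi3 : i % 3
        · exact hv1 (by rw [← hi', pow_zero])
        · exact hne.1 (by rw [← hi', pow_one])
        · exact hne.2 (by rw [← hi', pow_two])
      let S : Finset G := {c, c * c}
      have hcardN : Nat.card N ≤ 54 := by
        have hmap : ∀ n : N, (n : G) * c * (n : G)⁻¹ ∈ S := by
          intro n
          have hn := Subgroup.mem_normalizer_iff.1 n.2
          have hv : (n : G) * c * (n : G)⁻¹ ∈ (R : Subgroup G) := (hn c).1 hcR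
          rcases hZ _ hv (fun r hr => by
            have hr' : (n : G)⁻¹ * r * n ∈ (R : Subgroup G) :=
              (hn _).2 (by rwa [show (n : G) * ((n : G)⁻¹ * r * n) * (n : G)⁻¹ = r by group])
            have h := hcc _ hr'
            show r * ((n : G) * c * (n : G)⁻¹) = (n : G) * c * (n : G)⁻¹ * r
            calc r * ((n : G) * c * (n : G)⁻¹) = (n : G) * (((n : G)⁻¹ * r * n) * c) * (n : G)⁻¹ := by group
              _ = _ := by rw [h.eq]; group)
            (by rw [ne_eq, conj_eq_one_iff]; exact hc1) with e | e <;> simp [S, e]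
        rw [Nat.card_eq_fintype_card, ← Finset.card_univ,
          Finset.card_eq_sum_card_fiberwise (f := fun n : N => (n : G) * c * (n : G)⁻¹) (t := S)
            (fun n _ => hmap n)]
        refine le_trans (Finset.sum_le_card_nsmul _ _ 27 fun v _ => ?_) ?_
        · rcases (Finset.univ.filter fun n : N => (n : G) * c * (n : G)⁻¹ = v).eq_empty_or_nonempty with h0 | ⟨n₀, hn₀⟩
          · rw [h0]; simp
          rw [← hcardR R, ← hCc, Nat.card_eq_fintype_card]
          rw [← Fintype.card_coe]
          refine Fintype.card_le_of_injective (fun n => (⟨(n₀ : G)⁻¹ * (n.1 : G), ?_⟩ :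
            Subgroup.centralizer ({c} : Set G))) fun x y hxy => ?_
          · rw [Subgroup.mem_centralizer_singleton_iff]
            have h1 : (n.1 : G) * c * (n.1 : G)⁻¹ = v := (Finset.mem_filter.1 n.2).2
            have h2 : (n₀ : G) * c * (n₀ : G)⁻¹ = v := (Finset.mem_filter.1 hn₀).2
            calc (n₀ : G)⁻¹ * (n.1 : G) * c = (n₀ : G)⁻¹ * ((n.1 : G) * c * (n.1 : G)⁻¹) * (n.1 : G) := by group
              _ = c * ((n₀ : G)⁻¹ * (n.1 : G)) := by rw [h1.trans h2.symm]; group
          · exact Subtype.ext (Subtype.ext (mul_left_cancel (congrArg Subtype.val hxy)))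
        · have : S.card ≤ 2 := Finset.card_le_two
          rw [smul_eq_mul]; omega
      have hRN : (R : Subgroup G) ≤ N := Subgroup.le_normalizer
      have hd := Subgroup.card_dvd_of_le hRN
      rw [hcardR R] at hd
      have hne : Nat.card N ≠ 27 := fun h27 => by
        have : (R : Subgroup G) = N := Subgroup.eq_of_le_of_card_ge hRN (by rw [hcardR R, h27])
        rw [← this] at hhN
        have := hcc h hhN
        rw [this.eq, mul_inv_cancel_right] at hh
        exact hc1 (eq_one_of_inv_eq hc3 hh)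
      have h54 : Nat.card N = 54 := by
        obtain ⟨q, hq⟩ := hd
        have : 0 < q := Nat.pos_of_ne_zero fun h0 => by rw [h0] at hq; simp at hq
        omega
      have hmod : Nat.card (Sylow 3 G) % 3 = 1 := card_sylow_modEq_one 3 G
      have hmul : Nat.card N * Nat.card (Sylow 3 G) = 5616 := by
        rw [Sylow.card_eq_index_normalizer R]; exact (Subgroup.card_mul_index _).trans hcard
      rw [h54] at hmul
      omega
    -- the subgroup of order nine is generated by `a` and `c`
    set O' := O.map C.subtype with hO'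
    have hO'card : Nat.card O' = 9 := by rw [hO', Subgroup.card_map_of_injective C.subtype_injective, hO]; rfl
    have haO : a ∈ O' := ⟨_, hOle (Subgroup.mem_zpowers _), rfl⟩
    have hcC : c ∈ C := Subgroup.mem_centralizer_singleton_iff.2 hac.symm.eq
    have hcO : c ∈ O' := ⟨⟨c, hcC⟩, by
      have h := Subgroup.sq_mem_of_index_two hOidx ((⟨c, hcC⟩ : C) * ⟨c, hcC⟩)
      rwa [show ((⟨c, hcC⟩ : C) * ⟨c, hcC⟩) ^ 2 = ⟨c, hcC⟩ from Subtype.ext (by
        show (c * c) ^ 2 = c
        rw [pow_two, ← mul_assoc, hc3, one_mul])] at h, rfl⟩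
    have key : ∀ i j : ℕ, i < 3 → j < 3 → a ^ i * c ^ j = 1 → i = 0 ∧ j = 0 := by
      intro i j hi hj h
      interval_cases i <;> interval_cases j
      · exact ⟨rfl, rfl⟩
      · exact absurd (by simpa using h) hc1
      · refine absurd ?_ hc1
        rw [pow_zero, one_mul, pow_two] at h
        rwa [h, one_mul] at hc3
      · exact absurd (by simpa using h) ha1
      · refine absurd ?_ hca.2
        rw [pow_one, pow_one] at h
        calc c = (a * a * a) * c := by rw [ha3m, one_mul]
          _ = a * a * (a * c) := by group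
          _ = a * a := by rw [h, mul_one]
      · refine absurd ?_ hca.1
        rw [pow_one, pow_two] at h
        calc c = a * (c * c) * c := by rw [h, one_mul]
          _ = a * (c * c * c) := by group
          _ = a := by rw [hc3, mul_one]
      · refine absurd ?_ ha1
        rw [pow_zero, mul_one] at h
        calc a = a ^ 3 * (a ^ 2)⁻¹ := by group
          _ = 1 := by rw [ha3, h, inv_one, one_mul]
      · refine absurd ?_ hca.1
        rw [pow_one] at h
        calc c = a ^ 3 * c := by rw [ha3, one_mul]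
          _ = a * (a ^ 2 * c) := by group
          _ = a := by rw [h, mul_one]
      · refine absurd ?_ hca.2
        rw [pow_two, pow_two] at h
        calc c = a * a * (c * c) * c := by rw [h, one_mul]
          _ = a * a * (c * c * c) := by group
          _ = a * a := by rw [hc3, mul_one]
    have hc3' : c ^ 3 = 1 := by rw [pow_succ, pow_two, hc3]
    have hmem : ∀ v ∈ O', ∃ i j : ℕ, i < 3 ∧ j < 3 ∧ a ^ i * c ^ j = v := by
      let φ : Fin 3 × Fin 3 → O' := fun p =>
        ⟨a ^ (p.1 : ℕ) * c ^ (p.2 : ℕ), O'.mul_mem (O'.pow_mem haO _) (O'.pow_mem hcO _)⟩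
      have hφ : Function.Bijective φ := by
        rw [Fintype.bijective_iff_injective_and_card]
        refine ⟨?_, by rw [← Nat.card_eq_fintype_card, ← Nat.card_eq_fintype_card, hO'card]; simp⟩
        rintro ⟨i, j⟩ ⟨i', j'⟩ h
        have h' : a ^ (i : ℕ) * c ^ (j : ℕ) = a ^ (i' : ℕ) * c ^ (j' : ℕ) := congrArg Subtype.val h
        have h1 : a ^ (((i : ℕ) + (3 - i')) % 3) * c ^ (((j : ℕ) + (3 - j')) % 3) = 1 := by
          rw [← pow_eq_pow_mod _ ha3, ← pow_eq_pow_mod _ hc3', pow_add, pow_add,
            (hac.pow_pow _ _).mul_mul_mul_comm, h', ← (hac.pow_pow _ _).mul_mul_mul_comm, ← pow_add,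
            ← pow_add, Nat.add_sub_cancel' i'.is_lt.le, Nat.add_sub_cancel' j'.is_lt.le, ha3, hc3', one_mul]
        obtain ⟨e1, e2⟩ := key _ _ (Nat.mod_lt _ (by norm_num)) (Nat.mod_lt _ (by norm_num)) h1
        have := i.is_lt; have := i'.is_lt; have := j.is_lt; have := j'.is_lt
        exact Prod.ext (Fin.ext (by show (i : ℕ) = i'; omega)) (Fin.ext (by show (j : ℕ) = j'; omega))
      intro v hv
      obtain ⟨⟨i, j⟩, hij⟩ := hφ.2 ⟨v, hv⟩
      exact ⟨i, j, i.is_lt, j.is_lt, congrArg Subtype.val hij⟩
    have htt : t * t = 1 := by rw [← pow_two, ← htord, pow_orderOf_eq_one]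
    have htt' : ∀ x : G, t * (t * x) = x := fun x => by rw [← mul_assoc, htt, one_mul]
    have hta : t * a * t = a := by rw [hat.symm.eq, mul_assoc, htt, mul_one]
    have hti : t⁻¹ = t := inv_eq_of_mul_eq_one_right htt
    have htc : t * c * t ∈ O' := by
      obtain ⟨w, hw, hwc⟩ := hcO
      refine ⟨⟨t, ht2⟩ * w * (⟨t, ht2⟩ : C)⁻¹, Subgroup.Normal.conj_mem ‹O.Normal› w hw _, ?_⟩
      show t * (w : G) * t⁻¹ = t * c * t
      rw [hti, show (w : G) = c from hwc]
    have hnfix : ¬ Commute c t := by
      intro h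
      obtain ⟨v, hv⟩ := exists_emb'_eq (f := f) h.eq
      have hm : v = 1 ∨ v = uu ∨ v = uu * uu := by
        refine m_comm uu v u3 (emb'_injective (f := f) (by rw [map_mul, map_mul, hv, map_one, hc3])) u1
          (emb'_injective (f := f) ?_)
        simp only [map_mul, map_one, hv, ← ha]
        calc _ = (a * c) ^ 3 := by simp only [pow_succ, pow_zero, one_mul, mul_assoc]
          _ = 1 := by rw [hac.mul_pow, ha3, hc3', one_mul]
      rcases hm with e | e | e <;> rw [e] at hv
      · rw [map_one] at hv; exact hc1 hv.symm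
      · exact hca.1 hv.symm
      · rw [map_mul] at hv; exact hca.2 hv.symm
    have hX : Commute (c * c) a := (hac.symm.mul_left hac.symm)
    have htcases : t * c * t = a * (c * c) ∨ t * c * t = a * a * (c * c) := by
      obtain ⟨i, j, hi, hj, e⟩ := hmem _ htc
      have hinv : t * (t * c * t) * t = c := by simp only [mul_assoc, htt', htt, mul_one]
      have haa : t * (a * a) * t = a * a := by
        calc t * (a * a) * t = t * a * (t * t) * (a * t) := by rw [htt]; group
          _ = (t * a * t) * (t * a * t) := by group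
          _ = a * a := by rw [hta]
      interval_cases i <;> interval_cases j
      · simp only [pow_zero, one_mul] at e
        rw [← e, mul_one, htt] at hinv; exact absurd hinv.symm hc1
      · simp only [pow_zero, one_mul, pow_one] at e
        refine absurd ?_ hnfix
        show c * t = t * c
        calc c * t = t * c * t * t := by rw [← e]
          _ = t * c := by rw [mul_assoc, htt, mul_one]
      · simp only [pow_zero, one_mul, pow_two] at e
        exact absurd (by rw [hti, ← e, inv_eq_of_mul_eq_one_left hc3]) (hreal t)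
      · simp only [pow_zero, pow_one, mul_one] at e
        rw [← e, hta] at hinv; exact absurd hinv.symm hca.1
      · simp only [pow_one] at e
        refine absurd ?_ ha1
        rw [← e, show t * (a * c) * t = (t * a * t) * (t * c * t) by simp only [mul_assoc, htt'], hta, ← e,
          ← mul_assoc] at hinv
        have h2 : a * a = 1 := mul_right_cancel (hinv.trans (one_mul c).symm)
        calc a = a * a * a := by rw [h2, one_mul]
          _ = 1 := ha3m
      · simp only [pow_one, pow_two] at e; exact Or.inl e.symm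
      · simp only [pow_zero, pow_two, mul_one] at e
        rw [← e, haa] at hinv; exact absurd hinv.symm hca.2
      · simp only [pow_one, pow_two] at e
        refine absurd ?_ ha1
        rw [← e, show t * (a * a * c) * t = (t * (a * a) * t) * (t * c * t) by simp only [mul_assoc, htt'],
          haa, ← e, ← mul_assoc] at hinv
        have h4 : a * a * (a * a) = 1 := mul_right_cancel (hinv.trans (one_mul c).symm)
        calc a = a * a * (a * a) * (a ^ 3)⁻¹ := by group
          _ = 1 := by rw [h4, ha3, inv_one, one_mul]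
      · simp only [pow_two] at e; exact Or.inr e.symm
    -- an element of `R` outside the centraliser
    obtain ⟨r, hrR, hrC⟩ := SetLike.not_le_iff_exists.1 hnoR
    have hrr : r * r ∉ C := by
      intro h
      refine hrC ?_
      obtain ⟨m, hm⟩ := (R.isPGroup').exists_card_eq
      have hr27 : r ^ 27 = 1 := by
        have h := pow_card_eq_one' (x := (⟨r, hrR⟩ : (R : Subgroup G)))
        rw [hcardR R] at h
        exact congrArg Subtype.val h
      have := C.pow_mem h 14
      rwa [← pow_two, ← pow_mul, show 2 * 14 = 1 + 27 by rfl, pow_add, pow_one, hr27, mul_one] at this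
    have hO'le : O' ≤ (R : Subgroup G) := hR
    haveI : (O'.subgroupOf (R : Subgroup G)).Normal := by
      refine Subgroup.normal_of_index_eq_minFac_card ?_
      have h := (O'.subgroupOf (R : Subgroup G)).card_mul_index
      rw [Nat.card_congr (Subgroup.subgroupOfEquivOfLe hO'le).toEquiv, hO'card, hcardR R] at h
      rw [hcardR R, show Nat.minFac 27 = 3 by norm_num]
      omega
    have hra : r * a * r⁻¹ ∈ O' :=
      Subgroup.Normal.conj_mem ‹(O'.subgroupOf (R : Subgroup G)).Normal› (⟨a, haR⟩ : (R : Subgroup G))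
        (show (⟨a, haR⟩ : (R : Subgroup G)) ∈ O'.subgroupOf (R : Subgroup G) from haO) ⟨r, hrR⟩
    have hrc : r * c * r⁻¹ = c := by rw [(hcc r hrR).eq, mul_inv_cancel_right]
    have h2r : r * r * a * (r * r)⁻¹ = r * (r * a * r⁻¹) * r⁻¹ := by group
    have hboth : IsConj a (a * c) ∧ IsConj a (a * (c * c)) := by
      obtain ⟨i, j, hi, hj, e⟩ := hmem _ hra
      have hconj : IsConj a (r * a * r⁻¹) := isConj_iff.2 ⟨r, rfl⟩
      have hconj2 : IsConj a (r * r * a * (r * r)⁻¹) := isConj_iff.2 ⟨r * r, rfl⟩
      have hrcc : r * (c * c) * r⁻¹ = c * c := by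
        rw [show r * (c * c) * r⁻¹ = (r * c * r⁻¹) * (r * c * r⁻¹) by group, hrc]
      interval_cases i
      · exfalso
        rw [pow_zero, one_mul] at e
        exact hnoZ _ (fun s hs => (hcc s hs).pow_right j) (e ▸ hconj)
      · have e' : r * a * r⁻¹ = a * c ^ j := by rw [← e, pow_one]
        have e2 : r * r * a * (r * r)⁻¹ = a * (c ^ j * c ^ j) := by
          rw [h2r, e', show r * (a * c ^ j) * r⁻¹ = (r * a * r⁻¹) * (r * c * r⁻¹) ^ j by rw [conj_pow]; group,
            e', hrc, mul_assoc]
        interval_cases j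
        · exfalso
          rw [pow_zero, mul_one] at e'
          exact hrC (Subgroup.mem_centralizer_singleton_iff.2 (by
            calc r * a = r * a * r⁻¹ * r := by group
              _ = a * r := by rw [e']))
        · rw [pow_one] at e' e2
          exact ⟨e' ▸ hconj, e2 ▸ hconj2⟩
        · rw [pow_two] at e'
          rw [show c ^ 2 * c ^ 2 = c * c * c * c by rw [pow_two, ← mul_assoc], hc3, one_mul] at e2
          exact ⟨e2 ▸ hconj2, e' ▸ hconj⟩
      · exfalso
        refine hrr (Subgroup.mem_centralizer_singleton_iff.2 ?_)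
        have e2 : r * r * a * (r * r)⁻¹ = a := by
          rw [h2r, ← e, show r * (a ^ 2 * c ^ j) * r⁻¹ = (r * a * r⁻¹) ^ 2 * (r * c * r⁻¹) ^ j by
            rw [conj_pow, conj_pow]; group, hrc, ← e, (hac.pow_pow 2 j).mul_pow, ← pow_mul, ← pow_mul,
            pow_eq_pow_mod (2 * 2) ha3, pow_one, mul_assoc, ← pow_add, show j * 2 + j = 3 * j by ring,
            pow_mul, hc3', one_pow, mul_one]
        calc r * r * a = r * r * a * (r * r)⁻¹ * (r * r) := by group
          _ = a * (r * r) := by rw [e2]
    have ht_conj : ∀ w : G, IsConj a w → IsConj a (t * w * t) := fun w hw =>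
      hw.trans (isConj_iff.2 ⟨t, by rw [hti]⟩)
    rcases htcases with e | e
    · refine hcno ?_
      have h := ht_conj _ hboth.2
      rwa [show t * (a * (c * c)) * t = (t * a * t) * ((t * c * t) * (t * c * t)) by
          simp only [mul_assoc, htt'], hta, e, hX.mul_mul_mul_comm, show a * (a * a * (c * c * (c * c))) =
          a * a * a * (c * c * c) * c by group, ha3m, hc3, one_mul, one_mul] at h
    · refine hnoZ (c * c) (fun s hs => (hcc s hs).mul_right (hcc s hs)) ?_
      have h := ht_conj _ hboth.1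
      rwa [show t * (a * c) * t = (t * a * t) * (t * c * t) by simp only [mul_assoc, htt'], hta, e,
        ← mul_assoc, ← mul_assoc a a a, ha3m, one_mul] at h
  · exact hc

end Cfsg.Agent.InvolCentGLTwoThree
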